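import Groth.Agent.Div86.Ref.Divisor
import Groth.Prelude.Def_BlowUp2
import Groth.Agent.InvX.Tensor

/-!
# The invertible modules of an effective Cartier divisor and their orders
-/

set_option autoImplicit false
set_option linter.style.haveILetI false
set_option backward.isDefEq.respectTransparency false
set_option backward.isDefEq.respectTransparency.types false

universe u

open CategoryTheory AlgebraicGeometry TopologicalSpace Groth.Agent.H23 Groth.Agent.InvX IsLocalRing

namespace Groth.Agent.Div86.CT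

variable {X : Scheme.{u}} (I : X.IdealSheafData)

/-- The value of a germ of the ideal module. -/
noncomputable def val (x : X) :
    (ClSub.idealMod I).presheaf.stalk x →ₗ[X.presheaf.stalk x] X.presheaf.stalk x :=
  (RefX.unitStalk x).symm.toLinearMap.comp (RefHull.stalkMapₗ (ClSub.idealModι I) x)

lemma val_germ {U : X.Opens} {x : X} (hx : x ∈ U) (k : Γ(ClSub.idealMod I, U)) :
    val I x ((ClSub.idealMod I).presheaf.germ U x hx k) = X.presheaf.germ U x hx (OmegaSh.idealSect I U k) := by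
  rw [val, LinearMap.comp_apply, LinearEquiv.coe_coe, LinearEquiv.symm_apply_eq, RefHull.stalkMapₗ_germ]
  show _ = (X.presheaf.germ U x hx (OmegaSh.idealSect I U k)) •
    (Coh.structureModule X).presheaf.germ ⊤ x trivial (show Γ(Coh.structureModule X, ⊤) from (1 : Γ(X, ⊤)))
  rw [← germ_res' (le_top : U ≤ ⊤) hx, ← QCoh.germ_smul', OmegaSh.idealSect_apply]
  refine congrArg _ ?_
  show _ = _ * AModX.resR (le_top : U ≤ ⊤) 1
  rw [map_one, mul_one]
  rfl

lemma val_injective (x : X) : Function.Injective (val I x) := by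
  refine (injective_iff_map_eq_zero _).2 fun v hv => ?_
  obtain ⟨U, hx, k, rfl⟩ := TopCat.Presheaf.exists_germ_eq (ClSub.idealMod I).presheaf v
  rw [val_germ] at hv
  obtain ⟨W, hW, i, j, h⟩ := TopCat.Presheaf.germ_eq (C := CommRingCat.{u}) X.presheaf x hx hx _ 0
    (hv.trans (map_zero _).symm)
  rw [map_zero] at h
  have h1 : AModX.res (ClSub.idealMod I) i.le k = 0 :=
    OmegaLib.idealSect_injective _ W ((OmegaLib.idealSect_map _ i.le k).trans (h.trans (map_zero _).symm))
  rw [← germ_res' i.le hW k, h1, map_zero]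

variable [IsIntegral X] [IsLocallyNoetherian X]

omit [IsIntegral X] in
lemma isCoh : Coh.IsCoh (ClSub.idealMod I) := by
  haveI : IsLocallyNoetherian I.subscheme :=
    LocallyOfFiniteType.isLocallyNoetherian I.subschemeι
  exact QCoh.isCoh_kernel QCoh.isCoh_structureModule'
    (QCoh.isCoh_pushforward_finite I.subschemeι QCoh.isCoh_structureModule') _

omit [IsLocallyNoetherian X] in
lemma isTorsionFree : TorSh.IsTorsionFree (ClSub.idealMod I) := fun x =>
  CAlgOdd.Refl.isTorsionFree_of_injective (val I x) (val_injective I x)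

variable {I}

/-- A local generator of the ideal gives a generator of the stalk. -/
lemma exists_gen_chart {U : X.Opens} (hU : IsAffineOpen U) {f : Γ(X, U)} (hf : f ≠ 0)
    (hI : I.ideal ⟨U, hU⟩ = Ideal.span {f}) :
    ∃ k : Γ(ClSub.idealMod I, U), ∀ (x : X) (hx : x ∈ U),
      val I x ((ClSub.idealMod I).presheaf.germ U x hx k) = X.presheaf.germ U x hx f ∧
      RatSec.IsGen ((ClSub.idealMod I).presheaf.germ U x hx k) := by
  obtain ⟨k, hk⟩ := OmegaLib.exists_of_mem I ⟨U, hU⟩ f (hI ▸ Ideal.mem_span_singleton_self f)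
  refine ⟨k, fun x hx => ⟨by rw [val_germ, hk], ?_, fun a ha => ?_⟩⟩
  · letI := QCoh.stalkAlg (X := X) hx
    letI := QCoh.stalkModule (ClSub.idealMod I) hx
    haveI := QCoh.isScalarTower_stalk (ClSub.idealMod I) hx
    haveI := QCoh.isLocalization_stalk' hU hx
    haveI := QCoh.isLocalizedModule_germLin (isCoh I).1 hU hx
    refine Submodule.eq_top_iff'.2 fun w => ?_
    obtain ⟨⟨n, d⟩, hnd⟩ := IsLocalizedModule.surj (hU.primeIdealOf ⟨x, hx⟩).asIdeal.primeCompl
      (QCoh.germLin (ClSub.idealMod I) hx) w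
    refine (Submodule.smul_mem_iff_of_isUnit _ (IsLocalization.map_units (X.presheaf.stalk x) d)).1 ?_
    rw [algebraMap_smul]
    refine (congrArg (· ∈ Submodule.span (X.presheaf.stalk x)
      {(ClSub.idealMod I).presheaf.germ U x hx k}) hnd).mpr ?_
    obtain ⟨c, hc⟩ := Ideal.mem_span_singleton'.1 (hI ▸ OmegaLib.idealSect_mem I ⟨U, hU⟩ n)
    refine Submodule.mem_span_singleton.2 ⟨X.presheaf.germ U x hx c, val_injective I x ?_⟩
    rw [map_smul, val_germ, hk, smul_eq_mul, ← map_mul, hc]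
    exact (val_germ I hx n).symm
  · have h1 := congrArg (val I x) ha
    rw [map_smul, map_zero, val_germ, hk, smul_eq_mul] at h1
    haveI : Nonempty U := ⟨⟨x, hx⟩⟩
    refine (mul_eq_zero.1 h1).resolve_right fun h => hf ?_
    exact germ_injective_of_isIntegral X x hx (h.trans (map_zero _).symm)

variable (hI : BlowUp.IsEffCartierIdeal I)

include hI in
lemma exists_chart (x : X) : ∃ (U : X.Opens) (hU : IsAffineOpen U) (_ : x ∈ U) (f : Γ(X, U)),
    f ≠ 0 ∧ I.ideal ⟨U, hU⟩ = Ideal.span {f} := by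
  obtain ⟨U, hxU, f, hf, hIf⟩ := hI x
  haveI : Nonempty U.1 := ⟨⟨x, hxU⟩⟩
  exact ⟨U.1, U.2, hxU, f, nonZeroDivisors.ne_zero hf, hIf⟩

include hI in
lemma exists_gen (x : X) : ∃ t : (ClSub.idealMod I).presheaf.stalk x,
    RatSec.IsGen t ∧ RatSec.IsGen (Ref.toGen (ClSub.idealMod I) x t) := by
  obtain ⟨U, hU, hxU, f, hf, hIf⟩ := exists_chart hI x
  obtain ⟨k, hk⟩ := exists_gen_chart hU hf hIf
  refine ⟨_, (hk x hxU).2, ?_⟩
  rw [Ref.toGen_germ]
  exact (hk _ (Ref.generic_mem hxU)).2

include hI in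
theorem isInvertible : PicF.IsInvertible (ClSub.idealMod I) := by
  refine InvX.isInvertible_of_frames fun x => ?_
  obtain ⟨t, ht, htg⟩ := exists_gen hI x
  obtain ⟨U, hU, e, he, -⟩ := Ref.exists_frame_of_isGen (isCoh I) (isTorsionFree I) ht htg
  exact ⟨U, hU, e, he⟩

include hI in
/-- The rational section `1` and its orders. -/
theorem exists_sord_one : ∃ m : (ClSub.idealMod I).presheaf.stalk (genericPoint X), m ≠ 0 ∧
    ∀ (x : X), Order.coheight x = 1 → ∀ (U : X.Opens) (hU : IsAffineOpen U) (hx : x ∈ U) (f : Γ(X, U)),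
      f ≠ 0 → I.ideal ⟨U, hU⟩ = Ideal.span {f} →
      Ref.sord (ClSub.idealMod I) x m =
        - Scheme.ord (algebraMap (X.presheaf.stalk x) X.functionField (X.presheaf.germ U x hx f)) x := by
  obtain ⟨U₀, hU₀, hηU, f₀, hf₀, hI₀⟩ := exists_chart hI (genericPoint X)
  obtain ⟨k₀, hk₀⟩ := exists_gen_chart hU₀ hf₀ hI₀
  obtain ⟨hv₀, hg₀⟩ := hk₀ _ hηU
  haveI : Nonempty U₀ := ⟨⟨_, hηU⟩⟩
  let c₀ : X.functionField := X.presheaf.germ U₀ (genericPoint X) hηU f₀
  have hc₀ : c₀ ≠ 0 := fun h => hf₀ (germ_injective_of_isIntegral X _ hηU (h.trans (map_zero _).symm))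
  let m := c₀⁻¹ • (ClSub.idealMod I).presheaf.germ U₀ (genericPoint X) hηU k₀
  have hm : val I (genericPoint X) m = (1 : X.functionField) := by
    have h := map_smul (val I (genericPoint X)) c₀⁻¹ ((ClSub.idealMod I).presheaf.germ U₀ _ hηU k₀)
    rw [hv₀] at h
    exact h.trans (inv_mul_cancel₀ hc₀)
  refine ⟨m, fun h => ?_, fun x hx U hU hxU f hf hIf => ?_⟩
  · rw [h, map_zero] at hm
    exact zero_ne_one (α := X.functionField) hm
  obtain ⟨k, hk⟩ := exists_gen_chart hU hf hIf
  obtain ⟨hv, hg⟩ := hk x hxU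
  set c := algebraMap (X.presheaf.stalk x) X.functionField (X.presheaf.germ U x hxU f) with hcdef
  have hηx := Ref.generic_mem hxU
  have hcη : c = X.presheaf.germ U (genericPoint X) hηx f :=
    TopCat.Presheaf.germ_stalkSpecializes_apply X.presheaf hxU (Ref.spec x) f
  haveI : Nonempty U := ⟨⟨x, hxU⟩⟩
  have hc : c ≠ 0 := fun h => hf (germ_injective_of_isIntegral X _ hηx ((hcη.symm.trans h).trans (map_zero _).symm))
  have hgt : RatSec.IsGen (Ref.toGen (ClSub.idealMod I) x ((ClSub.idealMod I).presheaf.germ U x hxU k)) := by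
    rw [Ref.toGen_germ]
    exact (hk _ hηx).2
  have hmt : m = c⁻¹ • Ref.toGen (ClSub.idealMod I) x ((ClSub.idealMod I).presheaf.germ U x hxU k) := by
    refine val_injective I _ (hm.trans ?_)
    rw [Ref.toGen_germ]
    have h := map_smul (val I (genericPoint X)) c⁻¹ ((ClSub.idealMod I).presheaf.germ U _ hηx k)
    rw [(hk _ hηx).1, ← hcη] at h
    exact ((h.trans (inv_mul_cancel₀ hc))).symm
  rw [hmt, Ref.sord_gen hx hg hgt (inv_ne_zero hc), Ref.ord_inv hc]

omit [IsIntegral X] in
lemma isReflexive_of_isInvertible {M : X.Modules} (hM : PicF.IsInvertible M) (hc : Coh.IsCoh M) :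
    RefHull.IsReflexive M := by
  refine (RefX.isReflexive_iff hc).2 fun x => ?_
  haveI := Ref.finite_stalk hc x
  haveI : Module.Free (X.presheaf.stalk x) (M.presheaf.stalk x) :=
    QCoh.free_stalk_of_isFinLocFree (H23.PullPush.isFinLocFree_of_isInvertible hM) x
  exact (inferInstance : Module.IsReflexive (X.presheaf.stalk x) (M.presheaf.stalk x))

lemma isRef1_of_isInvertible {M : X.Modules} (hM : PicF.IsInvertible M) (hc : Coh.IsCoh M) :
    RefHull.IsRef1 M := by
  obtain ⟨U, hU, e, he⟩ := InvX.exists_frame hM (genericPoint X)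
  exact ⟨hc, isReflexive_of_isInvertible hM hc, Ref.genInvertible_of_frame hU he⟩

/-- Orders add up under the tensor product of invertible modules. -/
theorem exists_sord_tensor (hX : Pi1.IsNormalScheme X) {M N : X.Modules} (hM : PicF.IsInvertible M)
    (hN : PicF.IsInvertible N) (hcM : Coh.IsCoh M) (hcN : Coh.IsCoh N)
    {m : M.presheaf.stalk (genericPoint X)} (hm : m ≠ 0) {n : N.presheaf.stalk (genericPoint X)} (hn : n ≠ 0) :
    ∃ w : (CohB1.tensorMod M N).presheaf.stalk (genericPoint X), w ≠ 0 ∧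
      ∀ x : X, Order.coheight x = 1 →
        Ref.sord (CohB1.tensorMod M N) x w = Ref.sord M x m + Ref.sord N x n := by
  have hRM := isRef1_of_isInvertible hM hcM
  have hRN := isRef1_of_isInvertible hN hcN
  obtain ⟨w, hw, hord⟩ := Ref.exists_sord_add hX hRM hRN hm hn
  have hc := Ref.isCoh_tensor hcM hcN
  haveI : IsIso (RefHull.bidualMap (CohB1.tensorMod M N)) :=
    isReflexive_of_isInvertible (InvX.isInvertible_tensorMod hM hN) hc
  let e := (asIso (RefHull.bidualMap (CohB1.tensorMod M N))).symm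
  have hR := Ref.isRef1_ddual_tensor hRM hRN
  refine ⟨RefHull.stalkMapₗ e.hom (genericPoint X) w, fun h => hw ?_, fun x hx => ?_⟩
  · obtain ⟨v, rfl⟩ := (Ref.bidual_bijective_generic hc).2 w
    have hid : RefHull.stalkMapₗ e.hom (genericPoint X)
        (RefHull.stalkMapₗ (RefHull.bidualMap (CohB1.tensorMod M N)) (genericPoint X) v) = v := by
      obtain ⟨U, hU, q, rfl⟩ := TopCat.Presheaf.exists_germ_eq (CohB1.tensorMod M N).presheaf v
      rw [RefHull.stalkMapₗ_germ, RefHull.stalkMapₗ_germ]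
      exact congrArg ((CohB1.tensorMod M N).presheaf.germ U _ hU).hom
        (congrArg (fun p : CohB1.tensorMod M N ⟶ CohB1.tensorMod M N => p.app U q)
          (asIso (RefHull.bidualMap (CohB1.tensorMod M N))).hom_inv_id)
    rw [← hid, h, map_zero]
  · rw [Ref.sord_iso hX hR e hx hw, hord x hx]

end Groth.Agent.Div86.CT
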