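import Groth.Agent.Div86.Ref.Stalk
import Groth.Agent.AssLib.OpenRestrict
import Groth.Agent.QCoh.LocFree
import Groth.Agent.KZ.Localization

/-!
# Stalks of restrictions; the free locus
-/

set_option autoImplicit false
set_option linter.style.haveILetI false
set_option backward.isDefEq.respectTransparency false
set_option backward.isDefEq.respectTransparency.types false

universe u

open CategoryTheory AlgebraicGeometry TopologicalSpace

namespace Groth.Agent.Div86.Ref

/-- Reflexivity only depends on the module up to semilinear isomorphism. -/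
lemma isReflexive_of_semilinear {R R' : Type u} [CommRing R] [CommRing R'] (σ : R ≃+* R') {M M' : Type u}
    [AddCommGroup M] [Module R M] [AddCommGroup M'] [Module R' M'] (e : M ≃+ M')
    (he : ∀ (a : R) (m : M), e (a • m) = σ a • e m) [Module.IsReflexive R M] : Module.IsReflexive R' M' := by
  have he' : ∀ (b : R') (n : M'), e.symm (b • n) = σ.symm b • e.symm n := fun b n => e.injective (by
    rw [he, e.apply_symm_apply, e.apply_symm_apply, σ.apply_symm_apply])
  let D : Module.Dual R M → Module.Dual R' M' := fun f =>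
    { toFun := fun n => σ (f (e.symm n))
      map_add' := fun a b => by rw [map_add, map_add, map_add]
      map_smul' := fun b n => by
        rw [he', map_smul, smul_eq_mul, map_mul, σ.apply_symm_apply]
        rfl }
  let D' : Module.Dual R' M' → Module.Dual R M := fun g =>
    { toFun := fun m => σ.symm (g (e m))
      map_add' := fun a b => by rw [map_add, map_add, map_add]
      map_smul' := fun a m => by
        rw [he, map_smul, smul_eq_mul, map_mul, σ.symm_apply_apply]
        rfl }
  have hDD' : ∀ g, D (D' g) = g := fun g => LinearMap.ext fun n => by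
    show σ (σ.symm (g (e (e.symm n)))) = g n
    rw [σ.apply_symm_apply, e.apply_symm_apply]
  have hDadd : ∀ f g, D (f + g) = D f + D g := fun f g => LinearMap.ext fun n => by
    show σ ((f + g) (e.symm n)) = σ (f (e.symm n)) + σ (g (e.symm n))
    rw [LinearMap.add_apply, map_add]
  have hDsmul : ∀ (a : R) f, D (a • f) = σ a • D f := fun a f => LinearMap.ext fun n => by
    show σ ((a • f) (e.symm n)) = σ a * σ (f (e.symm n))
    rw [LinearMap.smul_apply, smul_eq_mul, map_mul]
  refine ⟨⟨?_, fun Φ => ?_⟩⟩
  · refine (injective_iff_map_eq_zero _).2 fun n hn => e.symm.injective ?_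
    rw [map_zero]
    refine (Module.bijective_dual_eval R M).1 ((LinearMap.ext fun f => ?_).trans (map_zero _).symm)
    show f (e.symm n) = 0
    refine σ.injective ?_
    rw [map_zero]
    exact LinearMap.congr_fun hn (D f)
  · let Ψ : Module.Dual R (Module.Dual R M) :=
      { toFun := fun f => σ.symm (Φ (D f))
        map_add' := fun f g => by rw [hDadd, map_add, map_add]
        map_smul' := fun a f => by
          rw [hDsmul, map_smul, smul_eq_mul, map_mul, σ.symm_apply_apply]
          rfl }
    obtain ⟨m, hm⟩ := (Module.bijective_dual_eval R M).2 Ψ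
    refine ⟨e m, LinearMap.ext fun g => ?_⟩
    show g (e m) = Φ g
    have h1 : D' g m = Ψ (D' g) := LinearMap.congr_fun hm (D' g)
    refine σ.symm.injective (h1.trans ?_)
    show σ.symm (Φ (D (D' g))) = σ.symm (Φ g)
    rw [hDD']

/-- Freeness only depends on the module up to semilinear isomorphism. -/
lemma free_of_semilinear {R R' : Type u} [CommRing R] [CommRing R'] (σ : R ≃+* R') {M M' : Type u}
    [AddCommGroup M] [Module R M] [AddCommGroup M'] [Module R' M'] (e : M ≃+ M')
    (he : ∀ (a : R) (m : M), e (a • m) = σ a • e m) [Module.Free R M] : Module.Free R' M' :=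
  haveI := RingHomInvPair.of_ringEquiv σ
  haveI := RingHomInvPair.of_ringEquiv_symm σ
  Module.Free.of_equiv ({ e with map_smul' := fun a m => he a m } : M ≃ₛₗ[(σ : R →+* R')] M')

variable {X : Scheme.{u}} {F : X.Modules} (U : X.Opens)

lemma restrict_transport (F : X.Modules) {x : X} (hx : x ∈ U) :
    ∃ (σ : X.presheaf.stalk x ≃+* (U : Scheme.{u}).presheaf.stalk ⟨x, hx⟩)
      (e : (F.restrict U.ι).presheaf.stalk ⟨x, hx⟩ ≃+ F.presheaf.stalk x),
      ∀ a m, e (σ a • m) = a • e m := by
  obtain ⟨e, he⟩ := AssLib.exists_semilinear_restrict U.ι F ⟨x, hx⟩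
  exact ⟨(asIso (U.ι.stalkMap ⟨x, hx⟩)).commRingCatIsoToRingEquiv, e, he⟩

lemma isReflexive_restrict_iff (F : X.Modules) {x : X} (hx : x ∈ U) :
    Module.IsReflexive ((U : Scheme.{u}).presheaf.stalk ⟨x, hx⟩) ((F.restrict U.ι).presheaf.stalk ⟨x, hx⟩) ↔
      Module.IsReflexive (X.presheaf.stalk x) (F.presheaf.stalk x) := by
  obtain ⟨σ, e, he⟩ := restrict_transport U F hx
  constructor
  · intro h
    exact isReflexive_of_semilinear σ.symm e fun a m => by
      conv_lhs => rw [← σ.apply_symm_apply a]
      exact he _ _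
  · intro h
    exact isReflexive_of_semilinear σ e.symm fun a m => e.injective (by
      rw [he, e.apply_symm_apply, e.apply_symm_apply])

lemma free_restrict_iff (F : X.Modules) {x : X} (hx : x ∈ U) :
    Module.Free ((U : Scheme.{u}).presheaf.stalk ⟨x, hx⟩) ((F.restrict U.ι).presheaf.stalk ⟨x, hx⟩) ↔
      Module.Free (X.presheaf.stalk x) (F.presheaf.stalk x) := by
  obtain ⟨σ, e, he⟩ := restrict_transport U F hx
  constructor
  · intro h
    exact free_of_semilinear σ.symm e fun a m => by
      conv_lhs => rw [← σ.apply_symm_apply a]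
      exact he _ _
  · intro h
    exact free_of_semilinear σ e.symm fun a m => e.injective (by
      rw [he, e.apply_symm_apply, e.apply_symm_apply])

variable [IsLocallyNoetherian X]

/-- The points with free stalk form an open set. -/
lemma isOpen_free_locus (hF : Coh.IsCoh F) :
    IsOpen {x : X | Module.Free (X.presheaf.stalk x) (F.presheaf.stalk x)} := by
  rw [isOpen_iff_forall_mem_open]
  intro x hx
  haveI : Module.Free (X.presheaf.stalk x) (F.presheaf.stalk x) := hx
  obtain ⟨V, n, hxV, ⟨e⟩⟩ := QCoh.exists_free_nhd_of_free_stalk (QCoh.isCoh_iff_isFP.1 hF) x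
  refine ⟨V, fun y hy => (free_restrict_iff V F hy).1 ?_, V.2, hxV⟩
  exact QCoh.free_stalk_of_isFinLocFree (fun z => ⟨⊤, n, trivial,
    ⟨(Scheme.Modules.restrictFunctor (⊤ : (V : Scheme.{u}).Opens).ι).mapIso e ≪≫ QCoh.freeModRestrict _ n⟩⟩) _

/-- A coherent module is finite locally free on an open all of whose stalks are free. -/
lemma isFinLocFree_restrict (hF : Coh.IsCoh F) (h : ∀ x ∈ U, Module.Free (X.presheaf.stalk x) (F.presheaf.stalk x)) :
    FlatMod.IsFinLocFree (F.restrict U.ι) :=
  QCoh.isFinLocFree_iff.2 ⟨QCoh.isCoh_iff_isFP.1 (KZ.Localization.isCoh_restrict U.ι hF),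
    fun u => (free_restrict_iff U F u.2).2 (h u.1 u.2)⟩

omit [IsLocallyNoetherian X] in
lemma free_of_isFinLocFree_restrict (h : FlatMod.IsFinLocFree (F.restrict U.ι)) {x : X} (hx : x ∈ U) :
    Module.Free (X.presheaf.stalk x) (F.presheaf.stalk x) :=
  (free_restrict_iff U F hx).1 (QCoh.free_stalk_of_isFinLocFree h _)

end Groth.Agent.Div86.Ref
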