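import Groth.Agent.Div86.ExtPow.Ord
import Groth.Agent.Div86.Ref.CartTwist
import Groth.Agent.IntThLib.DetLength
import Groth.Agent.KFlatLib.Scheme.Exact
import Groth.Agent.QCoh.LocFree
import Groth.Agent.QCoh.Support
import Groth.Agent.Div86.Ref.OpenRestrict

/-!
# Determinants of modifications along an integral effective Cartier divisor
-/

set_option autoImplicit false
set_option linter.style.haveILetI false
set_option backward.isDefEq.respectTransparency false
set_option backward.isDefEq.respectTransparency.types false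

universe u

open CategoryTheory AlgebraicGeometry TopologicalSpace Groth.Agent.H23 Groth.Agent.InvX IsLocalRing

namespace Groth.Agent.Div86.Modif

/-- The order of a determinant whose cokernel is killed by the maximal ideal and has few generators. -/
theorem ord_det_le {R : Type u} [CommRing R] [IsDomain R] [IsNoetherianRing R] [IsLocalRing R]
    [Ring.KrullDimLE 1 R] {r s : ℕ} (A : Matrix (Fin r) (Fin r) R) (hA : A.det ≠ 0) (W : Fin s → Fin r → R)
    (hspan : ∀ c : Fin r → R, ∃ d : Fin s → R, c - ∑ k, d k • W k ∈ LinearMap.range A.mulVecLin)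
    (hkill : ∀ π ∈ maximalIdeal R, ∀ c : Fin r → R, π • c ∈ LinearMap.range A.mulVecLin) :
    Ring.ord R A.det ≤ s := by
  rw [← IntThLib.length_coker_domain R A hA]
  let ψ : (Fin s → R) →ₗ[R] ((Fin r → R) ⧸ LinearMap.range A.mulVecLin) :=
    (Submodule.mkQ _).comp (Fintype.linearCombination R W)
  have hψ : Function.Surjective ψ := by
    intro q
    obtain ⟨c, rfl⟩ := Submodule.mkQ_surjective _ q
    obtain ⟨d, hd⟩ := hspan c
    exact ⟨d, ((Submodule.Quotient.eq _).2 hd).symm⟩
  let π : (Fin s → R) →ₗ[R] (Fin s → R ⧸ maximalIdeal R) :=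
    LinearMap.compLeft (Submodule.mkQ (maximalIdeal R)) (Fin s)
  have hπ : Function.Surjective π := fun z => by
    choose d hd using fun k => Submodule.mkQ_surjective (maximalIdeal R) (z k)
    exact ⟨d, funext hd⟩
  have hker : LinearMap.ker π ≤ LinearMap.ker ψ := by
    intro d hd
    have hd' : ∀ k, d k ∈ maximalIdeal R := fun k => (Submodule.Quotient.mk_eq_zero _).1 (congrFun hd k)
    show Submodule.mkQ _ (Fintype.linearCombination R W d) = 0
    rw [Submodule.mkQ_apply, Submodule.Quotient.mk_eq_zero, Fintype.linearCombination_apply]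
    exact Submodule.sum_mem _ fun k _ => hkill _ (hd' k) (W k)
  let φ := ((LinearMap.ker π).liftQ ψ hker).comp (π.quotKerEquivOfSurjective hπ).symm.toLinearMap
  have hφ : Function.Surjective φ := by
    simp only [φ, LinearMap.coe_comp, LinearEquiv.coe_coe]
    refine Function.Surjective.comp ?_ (LinearEquiv.surjective _)
    intro q
    obtain ⟨d, rfl⟩ := hψ q
    exact ⟨Submodule.Quotient.mk d, rfl⟩
  refine (Module.length_le_of_surjective φ hφ).trans ?_
  haveI : IsSimpleModule R (R ⧸ maximalIdeal R) :=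
    (isSimpleModule_iff_isCoatom.2 (Ideal.isMaximal_def.1 inferInstance))
  rw [Module.length_pi_of_fintype, Finset.sum_congr rfl fun _ _ => Module.length_eq_one R (R ⧸ maximalIdeal R)]
  simp

variable {X : Scheme.{u}} [IsIntegral X]

/-- The generic stalk of a module free of rank `r` on a nonempty open. -/
lemma nonempty_basis [IsLocallyNoetherian X] {F : X.Modules} (hF : Coh.IsCoh F) {r : ℕ} {U : X.Opens}
    (hne : (U : Set X).Nonempty) (hU : FlatMod.IsFinLocFreeOfRank r (F.restrict U.ι)) :
    Nonempty (Module.Basis (Fin r) X.functionField (F.presheaf.stalk (genericPoint X))) := by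
  obtain ⟨y, hy⟩ := hne
  have hη : genericPoint X ∈ U := Ref.generic_mem hy
  obtain ⟨U', hηU', ⟨e⟩⟩ := hU ⟨_, hη⟩
  obtain ⟨V, hV, hηV, hVU⟩ := exists_isAffineOpen_mem_and_subset
    (x := (⟨_, hη⟩ : (U : Scheme.{u}))) (U := U') hηU'
  obtain ⟨l⟩ := QCoh.free_sections hV hVU e
  have hq := KZ.Localization.isCoh_restrict U.ι hF
  have hrank := QCoh.finrank_stalk_of_freeChart hV hq.1 l hηV
  obtain ⟨σ, j, hj⟩ := Ref.restrict_transport U F hη
  have h : Module.finrank X.functionField (F.presheaf.stalk (genericPoint X)) = r := by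
    refine (congrArg Cardinal.toNat (rank_eq_of_equiv_equiv σ j.symm σ.bijective fun a m => ?_)).trans hrank
    refine j.injective ?_
    rw [hj, j.apply_symm_apply, j.apply_symm_apply]
  haveI : Module.Finite X.functionField (F.presheaf.stalk (genericPoint X)) := Ref.finite_stalk hF _
  exact ⟨Module.finBasisOfFinrankEq X.functionField (F.presheaf.stalk (genericPoint X)) h⟩

lemma det_mul_det {K M : Type u} [Field K] [AddCommGroup M] [Module K M] {r : ℕ}
    (b c : Module.Basis (Fin r) K M) (v : Fin r → M) : b.det c * c.det v = b.det v := by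
  rw [Module.Basis.det_apply, Module.Basis.det_apply, Module.Basis.det_apply, ← Matrix.det_mul,
    Module.Basis.toMatrix_mul_toMatrix]

variable {I : X.IdealSheafData}

/-- The direct image from a closed subscheme has zero stalks outside. -/
lemma stalk_eq_zero (G : I.subscheme.Modules) {x : X} (hx : x ∉ I.support)
    (w : ((Scheme.Modules.pushforward I.subschemeι).obj G).presheaf.stalk x) : w = 0 := by
  obtain ⟨W, hW, n, rfl⟩ := TopCat.Presheaf.exists_germ_eq
    ((Scheme.Modules.pushforward I.subschemeι).obj G).presheaf w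
  let O : X.Opens := ⟨(I.support : Set X)ᶜ, I.support.isClosed.isOpen_compl⟩
  have hxWO : x ∈ W ⊓ O := ⟨hW, hx⟩
  have hbot : I.subschemeι ⁻¹ᵁ (W ⊓ O) = ⊥ := by
    refine le_bot_iff.1 fun z hz => hz.2 ?_
    have h : I.subschemeι z ∈ Set.range I.subschemeι := ⟨z, rfl⟩
    rwa [Scheme.IdealSheafData.range_subschemeι] at h
  haveI : Subsingleton Γ(G, I.subschemeι ⁻¹ᵁ (W ⊓ O)) := by
    rw [hbot]
    exact AddCommGrpCat.subsingleton_of_isZero
      (TopCat.Sheaf.isTerminalOfEmpty (⟨G.presheaf, G.isSheaf⟩ : TopCat.Sheaf AddCommGrpCat.{u} I.subscheme)).isZero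
  rw [← InvX.germ_res' (inf_le_left : W ⊓ O ≤ W) hxWO n]
  rw [show AModX.res ((Scheme.Modules.pushforward I.subschemeι).obj G) (inf_le_left : W ⊓ O ≤ W) n = 0 from
    (Subsingleton.elim (α := Γ(G, I.subschemeι ⁻¹ᵁ (W ⊓ O))) _ _)]
  exact map_zero _

/-- The generators of a direct image of a locally free module. -/
lemma exists_stalk_gens [IsLocallyNoetherian X] {s : ℕ} {G : I.subscheme.Modules}
    (hG : FlatMod.IsFinLocFreeOfRank s G) (z : I.subscheme) :
    ∃ γ : Fin s → ((Scheme.Modules.pushforward I.subschemeι).obj G).presheaf.stalk (I.subschemeι z),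
      ∀ w, ∃ d : Fin s → X.presheaf.stalk (I.subschemeι z), w = ∑ k, d k • γ k := by
  classical
  haveI : IsLocallyNoetherian I.subscheme := LocallyOfFiniteType.isLocallyNoetherian I.subschemeι
  obtain ⟨U', hz, ⟨e⟩⟩ := hG z
  obtain ⟨W, hW, hWU⟩ := I.subschemeι.isEmbedding.isInducing.isOpen_iff.1 U'.2
  have hzW : I.subschemeι z ∈ W := by
    have := hWU.ge hz
    exact this
  obtain ⟨A, hA, hzA, hAW⟩ := exists_isAffineOpen_mem_and_subset (x := I.subschemeι z) (U := ⟨W, hW⟩) hzW
  obtain ⟨l⟩ := QCoh.free_sections (hA.preimage I.subschemeι)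
    (fun y hy => hWU.le (hAW hy)) e
  let N := (Scheme.Modules.pushforward I.subschemeι).obj G
  let g : Fin s → Γ(N, A) := fun k => l.symm (Finsupp.single (ULift.up k) 1)
  refine ⟨fun k => N.presheaf.germ A _ hzA (g k), fun w => ?_⟩
  let P := Submodule.span (X.presheaf.stalk (I.subschemeι z)) (Set.range fun k => N.presheaf.germ A _ hzA (g k))
  have hmem : ∀ n : Γ(N, A), N.presheaf.germ A _ hzA n ∈ P := by
    intro n
    choose a ha using fun k : ULift.{u} (Fin s) => I.subschemeι_app_surjective ⟨A, hA⟩ (l n k)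
    have hn : n = ∑ k, a (ULift.up k) • g k := by
      show (n : Γ(G, I.subschemeι ⁻¹ᵁ A)) = ∑ k, (I.subschemeι.app A (a (ULift.up k))) • (show Γ(G, I.subschemeι ⁻¹ᵁ A) from g k)
      refine l.injective ?_
      rw [map_sum]
      simp only [ha, map_smul, g, LinearEquiv.apply_symm_apply, Finsupp.smul_single, smul_eq_mul, mul_one]
      ext ⟨k⟩
      rw [Finsupp.finsetSum_apply, Finset.sum_eq_single k (fun j _ hj => Finsupp.single_eq_of_ne
        fun h => hj (ULift.up.inj h).symm) (fun h => absurd (Finset.mem_univ k) h), Finsupp.single_eq_same]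
    rw [hn, map_sum]
    refine Submodule.sum_mem _ fun k _ => ?_
    rw [QCoh.germ_smul' N hzA]
    exact Submodule.smul_mem _ _ (Submodule.subset_span ⟨k, rfl⟩)
  have hN : Coh.IsCoh N := QCoh.isCoh_pushforward_finite I.subschemeι
    (QCoh.isCoh_iff_isFP.2 (QCoh.isFP_of_isFinLocFree fun y => (hG y).elim fun V hV => ⟨V, s, hV⟩))
  letI := QCoh.stalkAlg (X := X) hzA
  letI := QCoh.stalkModule N hzA
  haveI := QCoh.isScalarTower_stalk N hzA
  haveI := QCoh.isLocalization_stalk' hA hzA
  haveI := QCoh.isLocalizedModule_germLin hN.1 hA hzA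
  obtain ⟨⟨n, d⟩, hnd⟩ := IsLocalizedModule.surj (hA.primeIdealOf ⟨_, hzA⟩).asIdeal.primeCompl
    (QCoh.germLin N hzA) w
  have h1 : algebraMap Γ(X, A) (X.presheaf.stalk (I.subschemeι z)) d.1 • w ∈ P := by
    rw [algebraMap_smul]
    exact (congrArg (· ∈ P) hnd).mpr (hmem n)
  have h2 := (Submodule.smul_mem_iff_of_isUnit P (IsLocalization.map_units (X.presheaf.stalk (I.subschemeι z)) d)).1 h1
  obtain ⟨c, hc⟩ := (Submodule.mem_span_range_iff_exists_fun _).1 h2
  exact ⟨c, hc.symm⟩

/-- Elements of the ideal kill the direct image. -/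
lemma smul_eq_zero_of_mem (G : I.subscheme.Modules) {U : X.Opens} (hU : IsAffineOpen U) {f : Γ(X, U)}
    (hf : f ∈ I.ideal ⟨U, hU⟩) {x : X} (hx : x ∈ U)
    (w : ((Scheme.Modules.pushforward I.subschemeι).obj G).presheaf.stalk x) :
    X.presheaf.germ U x hx f • w = 0 := by
  let N := (Scheme.Modules.pushforward I.subschemeι).obj G
  obtain ⟨W, hW, n, rfl⟩ := TopCat.Presheaf.exists_germ_eq N.presheaf w
  have hxV : x ∈ U ⊓ W := ⟨hx, hW⟩
  rw [← InvX.germ_resR' (inf_le_left : U ⊓ W ≤ U) hxV f, ← InvX.germ_res' (inf_le_right : U ⊓ W ≤ W) hxV n,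
    ← QCoh.germ_smul']
  have hker : I.subschemeι.app U f = 0 := by
    have h := I.ker_subschemeι_app ⟨U, hU⟩
    exact RingHom.mem_ker.1 (h.ge hf)
  have h0 : I.subschemeι.app (U ⊓ W) (AModX.resR (inf_le_left : U ⊓ W ≤ U) f) = 0 := by
    have h := congrArg (fun p => p.hom f) (I.subschemeι.naturality (homOfLE (inf_le_left : U ⊓ W ≤ U)).op)
    refine h.trans ?_
    show (I.subscheme.presheaf.map _).hom (I.subschemeι.app U f) = 0
    rw [hker, map_zero]
  have h1 : AModX.resR (inf_le_left : U ⊓ W ≤ U) f • AModX.res N (inf_le_right : U ⊓ W ≤ W) n = 0 := by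
    show (I.subschemeι.app (U ⊓ W) (AModX.resR (inf_le_left : U ⊓ W ≤ U) f)) •
      (show Γ(G, I.subschemeι ⁻¹ᵁ (U ⊓ W)) from AModX.res N (inf_le_right : U ⊓ W ≤ W) n) = 0
    rw [h0, zero_smul]
  rw [h1]
  exact map_zero _

variable [IsLocallyNoetherian X]

/-- Points of the support of an effective Cartier ideal are not generic. -/
lemma generic_notMem_support (hI : BlowUp.IsEffCartierIdeal I) : genericPoint X ∉ I.support := by
  obtain ⟨U, hU, hη, f, hf, hIf⟩ := CT.exists_chart hI (genericPoint X)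
  intro h
  rw [I.mem_support_iff_of_mem (U := ⟨U, hU⟩) hη] at h
  haveI : Nonempty U := ⟨⟨_, hη⟩⟩
  refine (Scheme.mem_zeroLocus_iff X _ _).1 h f (hIf ▸ Ideal.mem_span_singleton_self f) ?_
  rw [X.mem_basicOpen f _ hη]
  exact isUnit_iff_ne_zero.2 fun h0 => hf (germ_injective_of_isIntegral X _ hη
    ((h0 : (X.presheaf.germ U (genericPoint X) hη f : X.functionField) = 0).trans (map_zero _).symm))

/-- At the generic point of an integral divisor the local equation generates the maximal ideal. -/
lemma maximalIdeal_eq_span [IsIntegral I.subscheme] {U : X.Opens} (hU : IsAffineOpen U) {f : Γ(X, U)}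
    (hIf : I.ideal ⟨U, hU⟩ = Ideal.span {f}) (hξ : I.subschemeι (genericPoint I.subscheme) ∈ U) :
    maximalIdeal (X.presheaf.stalk (I.subschemeι (genericPoint I.subscheme))) =
      Ideal.span {X.presheaf.germ U _ hξ f} := by
  set ξ := I.subschemeι (genericPoint I.subscheme)
  haveI : Nonempty (I.subschemeι ⁻¹ᵁ U : I.subscheme.Opens) := ⟨⟨genericPoint I.subscheme, hξ⟩⟩
  haveI hprime : (Ideal.span {f} : Ideal Γ(X, U)).IsPrime := by
    rw [← hIf, ← I.ker_subschemeι_app ⟨U, hU⟩]
    exact RingHom.ker_isPrime _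
  obtain ⟨y, hy, hyq⟩ := QCoh.exists_point hU ⟨Ideal.span {f}, hprime⟩
  have hy' : (hU.primeIdealOf ⟨y, hy⟩).asIdeal = Ideal.span {f} := congrArg PrimeSpectrum.asIdeal hyq
  have hys : y ∈ I.support := by
    rw [I.mem_support_iff_of_mem (U := ⟨U, hU⟩) hy, Scheme.mem_zeroLocus_iff]
    intro g hg hyg
    refine (QCoh.mem_basicOpen_iff_notMem hU hy g).1 hyg ?_
    rw [hy', ← hIf]
    exact hg
  have hξy : ξ ⤳ y := by
    have h : y ∈ Set.range I.subschemeι := by rwa [Scheme.IdealSheafData.range_subschemeι]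
    obtain ⟨z, rfl⟩ := h
    exact ((genericPoint_spec I.subscheme).specializes trivial).map I.subschemeι.continuous
  have hp : (hU.primeIdealOf ⟨ξ, hξ⟩).asIdeal = Ideal.span {f} := by
    refine le_antisymm (((AssPtX.primeIdealOf_le_iff hU hξ hy).2 hξy).trans hy'.le) ?_
    rw [Ideal.span_singleton_le_iff_mem]
    by_contra hmem
    have hb : ξ ∈ X.basicOpen f := (QCoh.mem_basicOpen_iff_notMem hU hξ f).2 hmem
    have hs : ξ ∈ I.support := by
      have h : ξ ∈ Set.range I.subschemeι := ⟨_, rfl⟩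
      rwa [Scheme.IdealSheafData.range_subschemeι] at h
    rw [I.mem_support_iff_of_mem (U := ⟨U, hU⟩) hξ, Scheme.mem_zeroLocus_iff] at hs
    exact hs f (hIf ▸ Ideal.mem_span_singleton_self f) hb
  letI := QCoh.stalkAlg (X := X) hξ
  haveI := QCoh.isLocalization_stalk' hU hξ
  rw [← IsLocalization.AtPrime.map_eq_maximalIdeal (hU.primeIdealOf ⟨ξ, hξ⟩).asIdeal (X.presheaf.stalk ξ), hp,
    Ideal.map_span, Set.image_singleton]
  rfl

/-- A point of codimension one in the support is the generic point of the divisor. -/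
lemma eq_of_mem_support [IsIntegral I.subscheme] (hI : BlowUp.IsEffCartierIdeal I) {x : X}
    (hx : Order.coheight x = 1) (hxs : x ∈ I.support) : I.subschemeι (genericPoint I.subscheme) = x := by
  set ξ := I.subschemeι (genericPoint I.subscheme) with hξdef
  have h : x ∈ Set.range I.subschemeι := by rwa [Scheme.IdealSheafData.range_subschemeι]
  obtain ⟨z, hz⟩ := h
  have hξx : ξ ⤳ x := hz ▸ ((genericPoint_spec I.subscheme).specializes trivial).map I.subschemeι.continuous
  have hξs : ξ ∈ I.support := by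
    have h : ξ ∈ Set.range I.subschemeι := ⟨_, rfl⟩
    rwa [Scheme.IdealSheafData.range_subschemeι] at h
  have hne : ξ ≠ genericPoint X := fun h => generic_notMem_support hI (h ▸ hξs)
  have h1 : ξ < genericPoint X := lt_of_le_not_ge (Ref.spec ξ)
    fun h => hne (Specializes.antisymm h (Ref.spec ξ)).eq
  by_contra hx'
  have h2 : x < ξ := lt_of_le_not_ge hξx fun h => hx' (Specializes.antisymm hξx h).eq
  have h3 := Order.coheight_add_one_le h2
  have h4 := Order.coheight_add_one_le h1
  rw [hx] at h3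
  exact absurd ((add_le_add le_add_self le_rfl).trans (le_trans (add_le_add h4 le_rfl) h3)) (by decide)

end Groth.Agent.Div86.Modif
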