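import Groth.Agent.Div86.Ref.Stalk
import Groth.Agent.CDiv6.Normal
import Groth.Agent.ParaFX.Ufd
import Groth.Agent.S6876
import Groth.Agent.S16081
import Mathlib.LinearAlgebra.FreeModule.PID

/-!
# Coherent modules at points of codimension one
-/

set_option autoImplicit false
set_option linter.style.haveILetI false
set_option backward.isDefEq.respectTransparency false
set_option backward.isDefEq.respectTransparency.types false

universe u

open CategoryTheory AlgebraicGeometry TopologicalSpace Groth.Agent.H23 IsLocalRing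

namespace Groth.Agent.Div86.Ref

/-- The biduality map of a finite module over a principal ideal domain is surjective. -/
lemma eval_surjective_of_pid (R : Type u) [CommRing R] [IsDomain R] [IsPrincipalIdealRing R]
    (M : Type u) [AddCommGroup M] [Module R M] [Module.Finite R M] :
    Function.Surjective (Module.Dual.eval R M) := by
  let q := (Submodule.torsion R M).mkQ
  have hq : Function.Surjective q := Submodule.mkQ_surjective _
  haveI : Module.Free R (M ⧸ Submodule.torsion R M) := Module.free_of_finite_type_torsion_free'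
  have hbij : Function.Bijective q.dualMap := by
    refine ⟨LinearMap.dualMap_injective_of_surjective hq, fun f => ?_⟩
    refine ⟨(Submodule.torsion R M).liftQ f fun m hm => ?_, LinearMap.ext fun m => rfl⟩
    obtain ⟨a, ha⟩ := hm
    refine (mul_eq_zero.1 (?_ : (a : R) * f m = 0)).resolve_left (nonZeroDivisors.ne_zero a.2)
    rw [← smul_eq_mul, ← map_smul]
    exact (congrArg f ha).trans (map_zero f)
  intro Φ
  obtain ⟨n, hn⟩ := (Module.evalEquiv R (M ⧸ Submodule.torsion R M)).surjective (Φ.comp q.dualMap)
  obtain ⟨m, rfl⟩ := hq n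
  refine ⟨m, LinearMap.ext fun f => ?_⟩
  obtain ⟨g, rfl⟩ := hbij.2 f
  exact LinearMap.congr_fun hn g

variable {X : Scheme.{u}} [IsIntegral X] {F G : X.Modules}

/-- The generic point, codimension one, or dimension at least two. -/
lemma point_cases [IsLocallyNoetherian X] (x : X) : x = genericPoint X ∨ Order.coheight x = 1 ∨
    (2 : WithBot ℕ∞) ≤ ringKrullDim (X.presheaf.stalk x) := by
  rcases eq_or_ne (Order.coheight x) 0 with h0 | h0
  · refine Or.inl ?_
    by_contra hne
    have hlt : x < genericPoint X := lt_of_le_not_ge (spec x)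
      fun h => hne (Specializes.antisymm h (spec x)).eq
    have := Order.coheight_add_one_le hlt
    rw [h0] at this
    simp at this
  rcases eq_or_ne (Order.coheight x) 1 with h1 | h1
  · exact Or.inr (Or.inl h1)
  · refine Or.inr (Or.inr ?_)
    rw [ringKrullDim_stalk_eq_coheight, show (2 : WithBot ℕ∞) = ((2 : ℕ∞) : WithBot ℕ∞) from rfl,
      WithBot.coe_le_coe, ← one_add_one_eq_two]
    exact Order.add_one_le_of_lt (lt_of_le_of_ne (Order.one_le_iff_ne_zero.2 h0) h1.symm)

lemma ne_generic_of_dim {x : X} (h : (1 : WithBot ℕ∞) ≤ ringKrullDim (X.presheaf.stalk x)) :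
    x ≠ genericPoint X := by
  rintro rfl
  rw [ringKrullDim_eq_zero_of_isField (Field.toIsField X.functionField)] at h
  exact absurd h (by decide)

variable [IsLocallyNoetherian X]

omit [IsIntegral X] in
lemma finite_stalk (hF : Coh.IsCoh F) (x : X) :
    Module.Finite (X.presheaf.stalk x) (F.presheaf.stalk x) :=
  QCoh.finite_stalk_of_isFT hF.1 (QCoh.isFT_of_isFP (QCoh.isCoh_iff_isFP.1 hF)) x

omit [IsIntegral X] in
lemma isReflexive_unit : RefHull.IsReflexive (Coh.structureModule X) :=
  (RefX.isReflexive_iff RefX.isCoh_unit).2 fun x => Module.equiv (RefX.unitStalk x)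

lemma isReflexive_dual (hF : Coh.IsCoh F) : RefHull.IsReflexive (RefHull.dual F) :=
  S16081.result X F _ hF RefX.isCoh_unit isReflexive_unit

omit [IsIntegral X] in
lemma isCoh_ddual (hF : Coh.IsCoh F) : Coh.IsCoh (RefHull.ddual F) := RefX.isCoh_dual (RefX.isCoh_dual hF)

lemma isReflexive_ddual (hF : Coh.IsCoh F) : RefHull.IsReflexive (RefHull.ddual F) :=
  isReflexive_dual (RefX.isCoh_dual hF)

/-- At the generic point the biduality map is bijective. -/
lemma bidual_bijective_generic (hF : Coh.IsCoh F) :
    Function.Bijective (RefHull.stalkMapₗ (RefHull.bidualMap F) (genericPoint X)) := by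
  rw [RefX.stalkMap_bidual_bijective_iff hF]
  haveI : Module.Finite X.functionField (F.presheaf.stalk (genericPoint X)) := finite_stalk hF _
  exact (inferInstance : Module.IsReflexive X.functionField (F.presheaf.stalk (genericPoint X)))

variable (hX : Pi1.IsNormalScheme X)

include hX in
lemma two_le_depth {x : X} (hd : (2 : WithBot ℕ∞) ≤ ringKrullDim (X.presheaf.stalk x)) :
    (2 : ℕ∞) ≤ LocCoh.depth (X.presheaf.stalk x) (X.presheaf.stalk x) := by
  haveI := (hX x).2
  exact ParaFX.two_le_depth_of_normal _ hd

include hX in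
lemma two_le_depth_ref {x : X} (hd : (2 : WithBot ℕ∞) ≤ ringKrullDim (X.presheaf.stalk x))
    (hF : Coh.IsCoh F) (hr : RefHull.IsReflexive F) :
    (2 : ℕ∞) ≤ LocCoh.depth (X.presheaf.stalk x) (F.presheaf.stalk x) := by
  haveI := finite_stalk hF x
  haveI : Module.IsReflexive (X.presheaf.stalk x) (F.presheaf.stalk x) :=
    (RefX.isReflexive_iff hF).1 hr x
  exact CAlgOdd.Refl.depth_two_of_isReflexive (two_le_depth hX hd) fun M N _ _ _ _ _ _ hN =>
    (S6876.result _ M N).2 hN

include hX in
lemma isPID {x : X} (hx : Order.coheight x = 1) : IsPrincipalIdealRing (X.presheaf.stalk x) := by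
  haveI := CDiv6.isDVR_of_coheight_one hX hx
  infer_instance

include hX in
lemma bidual_surjective_codim_one {x : X} (hx : Order.coheight x = 1) (hF : Coh.IsCoh F) :
    Function.Surjective (RefHull.stalkMapₗ (RefHull.bidualMap F) x) := by
  haveI := isPID hX hx
  haveI := finite_stalk hF x
  have hFP := QCoh.isCoh_iff_isFP.1 hF
  let e : Module.Dual (X.presheaf.stalk x) (Module.Dual (X.presheaf.stalk x) (F.presheaf.stalk x)) ≃ₗ[X.presheaf.stalk x]
      RefHull.StalkHom (RefHull.dual F) (Coh.structureModule X) x :=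
    (RefX.dualStalk hFP x).symm.arrowCongr (RefX.unitStalk x)
  intro w
  obtain ⟨v, hv⟩ := eval_surjective_of_pid (X.presheaf.stalk x) (F.presheaf.stalk x)
    (e.symm (RefHull.evalStalk (RefHull.dual F) (Coh.structureModule X) x w))
  refine ⟨v, (RefX.evalStalk_bijective (QCoh.isCoh_iff_isFP.1 (RefX.isCoh_dual hF)) x).1 ?_⟩
  rw [← e.apply_symm_apply (RefHull.evalStalk (RefHull.dual F) (Coh.structureModule X) x w), ← hv]
  obtain ⟨U, hU, m, rfl⟩ := TopCat.Presheaf.exists_germ_eq F.presheaf v
  rw [RefHull.stalkMapₗ_germ, RefHull.evalStalk_germ, RefHull.bidualMap_app_apply]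
  refine LinearMap.ext fun θ => ?_
  show RefHull.evalStalk F _ x θ _ = RefX.unitStalk x ((RefX.unitStalk x).symm (RefHull.evalStalk F _ x θ _))
  rw [LinearEquiv.apply_symm_apply]
  rfl

include hX in
/-- Rank one: a generator of the stalk generates the generic stalk. -/
lemma exists_isGen {x : X} (hx : Order.coheight x = 1) (hF : Coh.IsCoh F)
    (htf : TorSh.IsTorsionFree F) (hgen : RefHull.GenInvertible F) :
    ∃ t : F.presheaf.stalk x, RatSec.IsGen t ∧ RatSec.IsGen (toGen F x t) := by
  classical
  haveI := isPID hX hx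
  haveI := finite_stalk hF x
  haveI := htf x
  haveI : Module.Free (X.presheaf.stalk x) (F.presheaf.stalk x) := Module.free_of_finite_type_torsion_free'
  obtain ⟨g, hg⟩ := exists_isGen_generic hgen
  have hinj := toGen_injective hF.1 x
  let b := Module.Free.chooseBasis (X.presheaf.stalk x) (F.presheaf.stalk x)
  have hne : ∀ i, toGen F x (b i) ≠ 0 := fun i h => b.ne_zero i (hinj (h.trans (map_zero _).symm))
  have hsub : ∀ i j, i = j := fun i j => by
    by_contra hij
    obtain ⟨c, hc⟩ := exists_coord_gen (isGen_of_ne_zero hg (hne i)) (toGen F x (b j))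
    obtain ⟨a, d, hd, rfl⟩ := IsFractionRing.div_surjective (A := X.presheaf.stalk x) c
    have hd' : algebraMap (X.presheaf.stalk x) X.functionField d ≠ 0 :=
      (map_ne_zero_iff _ (IsFractionRing.injective _ _)).2 (nonZeroDivisors.ne_zero hd)
    have h1 : d • b j = a • b i := hinj (by
      rw [toGen_smul, toGen_smul, ← hc, smul_smul, mul_comm, div_mul_cancel₀ _ hd'])
    have h2 := congrArg (fun v => b.repr v j) h1
    simp only [map_smul, Module.Basis.repr_self, Finsupp.smul_single, smul_eq_mul, mul_one,
      Finsupp.single_eq_same, Finsupp.single_eq_of_ne (Ne.symm hij)] at h2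
    exact nonZeroDivisors.ne_zero hd h2
  obtain ⟨i⟩ : Nonempty (Module.Free.ChooseBasisIndex (X.presheaf.stalk x) (F.presheaf.stalk x)) := by
    by_contra hemp
    haveI := not_nonempty_iff.1 hemp
    obtain ⟨a, ha, m, hm⟩ := exists_smul_mem_range hF.1 x g
    have hm0 : m = 0 := b.repr.injective (Subsingleton.elim _ _)
    rw [hm0, map_zero] at hm
    refine (map_ne_zero_iff _ (IsFractionRing.injective (X.presheaf.stalk x) X.functionField)).2 ha ?_
    exact hg.2 _ hm.symm
  haveI : Subsingleton (Module.Free.ChooseBasisIndex (X.presheaf.stalk x) (F.presheaf.stalk x)) := ⟨hsub⟩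
  refine ⟨b i, ⟨?_, fun a ha => (smul_eq_zero.1 ha).resolve_right (b.ne_zero i)⟩, isGen_of_ne_zero hg (hne i)⟩
  refine le_antisymm le_top (b.span_eq.ge.trans (Submodule.span_mono ?_))
  rintro _ ⟨j, rfl⟩
  rw [hsub j i]
  exact Set.mem_singleton _

end Groth.Agent.Div86.Ref
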