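import Groth.Agent.Div86.Ref.OpenRestrict
import Groth.Agent.Div86.Ref.Codim
import Groth.Agent.RefX.Ext
import Groth.Agent.QCoh.Qcqs
import Groth.Agent.CDiv6.Basic

/-!
# Direct images of reflexive modules from big open subschemes
-/

set_option autoImplicit false
set_option linter.style.haveILetI false
set_option backward.isDefEq.respectTransparency false
set_option backward.isDefEq.respectTransparency.types false

universe u

open CategoryTheory AlgebraicGeometry TopologicalSpace IsLocalRing Opposite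

namespace Groth.Agent.Div86.Ref

variable {X : Scheme.{u}}

/-- Finiteness only depends on the module up to semilinear isomorphism. -/
lemma finite_of_semilinear {R R' : Type u} [CommRing R] [CommRing R'] (σ : R ≃+* R') {M M' : Type u}
    [AddCommGroup M] [Module R M] [AddCommGroup M'] [Module R' M'] (e : M ≃+ M')
    (he : ∀ (a : R) (m : M), e (a • m) = σ a • e m) [Module.Finite R M] : Module.Finite R' M' := by
  obtain ⟨S, hS⟩ := (inferInstance : Module.Finite R M).fg_top
  classical
  refine ⟨⟨S.image e, eq_top_iff.2 fun n _ => ?_⟩⟩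
  obtain ⟨m, rfl⟩ := e.surjective n
  have hm : m ∈ Submodule.span R (S : Set M) := by rw [hS]; trivial
  induction hm using Submodule.span_induction with
  | mem x hx => exact Submodule.subset_span (Finset.mem_coe.2 (Finset.mem_image_of_mem e hx))
  | zero => rw [map_zero]; exact zero_mem _
  | add a b _ _ ha hb => rw [map_add]; exact add_mem (ha trivial) (hb trivial)
  | smul a x _ hx => rw [he]; exact Submodule.smul_mem _ _ (hx trivial)

lemma stalk_equiv_of_iso {A B : X.Modules} (e : A ≅ B) (x : X) :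
    Nonempty (A.presheaf.stalk x ≃ₗ[X.presheaf.stalk x] B.presheaf.stalk x) := by
  refine ⟨LinearEquiv.ofBijective (RefHull.stalkMapₗ e.hom x) ?_⟩
  haveI : IsIso e.hom.mapPresheaf := inferInstanceAs (IsIso ((Scheme.Modules.toPresheaf X).map e.hom))
  exact (ConcreteCategory.isIso_iff_bijective ((TopCat.Presheaf.stalkFunctor Ab x).map e.hom.mapPresheaf)).1 inferInstance

variable [IsIntegral X]

/-- A rational function regular on an open set is a section there. -/
lemma exists_section_of_reg {W : X.Opens} (hW : genericPoint X ∈ W) (h : X.functionField)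
    (hr : ∀ y ∈ W, CDiv6.Reg y h) : ∃ s : Γ(X, W), X.presheaf.germ W (genericPoint X) hW s = h := by
  have hloc : ∀ y : W, ∃ (V : X.Opens) (hV : y.1 ∈ V) (_ : V ≤ W) (s : Γ(X, V)),
      X.presheaf.germ V (genericPoint X) (generic_mem hV) s = h := by
    intro y
    obtain ⟨a, ha⟩ := hr y.1 y.2
    obtain ⟨V₀, hV₀, s, rfl⟩ := X.presheaf.exists_germ_eq a
    refine ⟨V₀ ⊓ W, ⟨hV₀, y.2⟩, inf_le_right, X.presheaf.map (homOfLE inf_le_left).op s, ?_⟩
    rw [X.presheaf.germ_res_apply, ← ha]
    exact (TopCat.Presheaf.germ_stalkSpecializes_apply X.presheaf hV₀ (spec y.1) s).symm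
  choose V hV hVW s hs using hloc
  obtain ⟨t, ht, -⟩ := TopCat.Sheaf.existsUnique_gluing' X.sheaf V W (fun y => homOfLE (hVW y))
    (fun y hy => Opens.mem_iSup.2 ⟨⟨y, hy⟩, hV ⟨y, hy⟩⟩) s fun a b => by
      haveI : Nonempty (V a ⊓ V b : X.Opens) := ⟨⟨_, generic_mem (hV a), generic_mem (hV b)⟩⟩
      refine germ_injective_of_isIntegral X (genericPoint X)
        (show genericPoint X ∈ V a ⊓ V b from ⟨generic_mem (hV a), generic_mem (hV b)⟩) ?_
      refine (X.presheaf.germ_res_apply _ _ _ _).trans (((hs a).trans (hs b).symm).trans ?_)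
      exact (X.presheaf.germ_res_apply _ _ _ _).symm
  refine ⟨t, ?_⟩
  rw [← hs ⟨_, hW⟩, ← ht ⟨_, hW⟩]
  exact (X.presheaf.germ_res_apply _ _ _ _).symm

variable [IsLocallyNoetherian X] {U : X.Opens}

lemma generic_mem_of_depth
    (hU : ∀ x : X, x ∉ U → (2 : ℕ∞) ≤ LocCoh.depth (X.presheaf.stalk x) (X.presheaf.stalk x)) :
    genericPoint X ∈ U := by
  by_contra h
  refine Alg6.one_le_depth_iff.1 (le_trans (by norm_num) (hU _ h)) (Alg6.mem_ass_iff.2 ⟨inferInstance, 1, fun a => ?_⟩)
  rw [show maximalIdeal (X.presheaf.stalk (genericPoint X)) = ⊥ from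
    isField_iff_maximalIdeal_eq.1 (Field.toIsField X.functionField), Ideal.mem_bot, smul_eq_mul, mul_one]

omit [IsIntegral X] [IsLocallyNoetherian X] in
lemma extendsAcross_push (G : (U : Scheme.{u}).Modules) :
    RefX.ExtendsAcross U ((Scheme.Modules.pushforward U.ι).obj G) := by
  intro W
  have e : U.ι ⁻¹ᵁ (W ⊓ U) = U.ι ⁻¹ᵁ W := Opens.ext (Set.ext fun y => ⟨fun h => h.1, fun h => ⟨h, y.2⟩⟩)
  exact (ConcreteCategory.isIso_iff_bijective (G.presheaf.map (homOfLE (e.le)).op)).1 (by
    have : IsIso (homOfLE e.le) := ⟨homOfLE e.ge, Subsingleton.elim _ _, Subsingleton.elim _ _⟩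
    infer_instance)

theorem push_reflexive
    (hU : ∀ x : X, x ∉ U → (2 : ℕ∞) ≤ LocCoh.depth (X.presheaf.stalk x) (X.presheaf.stalk x))
    (G : (U : Scheme.{u}).Modules) (hG : Coh.IsCoh G)
    (hr : ∀ x : (U : Scheme.{u}), Module.IsReflexive ((U : Scheme.{u}).presheaf.stalk x) (G.presheaf.stalk x)) :
    Coh.IsCoh ((Scheme.Modules.pushforward U.ι).obj G) ∧
      RefHull.IsReflexive ((Scheme.Modules.pushforward U.ι).obj G) := by
  classical
  set M := (Scheme.Modules.pushforward U.ι).obj G with hMdef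
  have hη := generic_mem_of_depth hU
  have hq : Coh.IsQCoh M := QCoh.isQCoh_pushforward U.ι hG.1
  have hext : RefX.ExtendsAcross U M := extendsAcross_push G
  let c : M.restrict U.ι ≅ G := asIso ((Scheme.Modules.restrictAdjunction U.ι).counit.app G)
  have hfinr : ∀ y ∈ U, Module.Finite (X.presheaf.stalk y) (M.presheaf.stalk y) ∧
      Module.IsReflexive (X.presheaf.stalk y) (M.presheaf.stalk y) := by
    intro y hy
    obtain ⟨σ, e, he⟩ := restrict_transport U M hy
    obtain ⟨l⟩ := stalk_equiv_of_iso c ⟨y, hy⟩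
    haveI := hr ⟨y, hy⟩
    haveI := Groth.Agent.QCoh.finite_stalk_of_isFT hG.1 hG.2 ⟨y, hy⟩
    haveI := Module.Finite.equiv l.symm
    haveI := Module.equiv l.symm
    have he' : ∀ a m, e (a • m) = σ.symm a • e m := fun a m => by
      conv_lhs => rw [← σ.apply_symm_apply a]
      exact he _ _
    exact ⟨finite_of_semilinear σ.symm e he', isReflexive_of_semilinear σ.symm e he'⟩
  have htf : ∀ y ∈ U, Module.IsTorsionFree (X.presheaf.stalk y) (M.presheaf.stalk y) := fun y hy => by
    haveI := (hfinr y hy).2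
    exact CAlgOdd.Refl.isTorsionFree_of_injective
      (Module.Dual.eval (X.presheaf.stalk y) (M.presheaf.stalk y)) (Module.bijective_dual_eval _ _).1
  -- coherence
  haveI : Module.Finite X.functionField (M.presheaf.stalk (genericPoint X)) := (hfinr _ hη).1
  let b := Module.finBasis X.functionField (M.presheaf.stalk (genericPoint X))
  have hcoh : Coh.IsCoh M := by
    refine QCoh.isCoh_iff.2 ⟨hq, fun V => ?_⟩
    haveI : IsNoetherianRing Γ(X, V.1) := IsLocallyNoetherian.component_noetherian V
    rcases isEmpty_or_nonempty V.1 with hem | hne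
    · haveI : Subsingleton Γ(M, V.1) := ⟨fun s t => AModX.eq_of_locally _ _ fun p hp => (hem.false ⟨p, hp⟩).elim⟩
      exact ⟨⟨∅, Subsingleton.elim _ _⟩⟩
    have hηV : genericPoint X ∈ V.1 := generic_mem hne.some.2
    haveI := functionField_isFractionRing_of_isAffineOpen X V.1 V.2
    haveI : NoetherianSpace (V.1 : Set X) := noetherianSpace_of_isAffineOpen V.1 V.2
    have hcpt : IsCompact ((V.1 ⊓ U : X.Opens) : Set X) := by
      have h := NoetherianSpace.isCompact ((Subtype.val : (V.1 : Set X) → X) ⁻¹' (U : Set X))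
      have h2 := h.image continuous_subtype_val
      rw [Set.image_preimage_eq_inter_range, Subtype.range_coe, Set.inter_comm] at h2
      exact h2
    have hcov : ∀ y : X, y ∈ V.1 ⊓ U → ∃ A : X.Opens, IsAffineOpen A ∧ y ∈ A ∧ A ≤ V.1 ⊓ U := fun y hy => by
      obtain ⟨A, hA, hyA, hAV⟩ := exists_isAffineOpen_mem_and_subset (x := y) (U := V.1 ⊓ U) hy
      exact ⟨A, hA, hyA, hAV⟩
    choose! A hA hyA hAV using hcov
    obtain ⟨t, htV, ht⟩ := hcpt.elim_nhds_subcover (fun y => (A y : Set X))
      fun y hy => (A y).2.mem_nhds (hyA y hy)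
    -- finitely many generators on each chart
    have hgen : ∀ y ∈ V.1 ⊓ U, ∃ S : Finset Γ(M, A y), Submodule.span Γ(X, A y) (S : Set Γ(M, A y)) = ⊤ := by
      intro y hy
      have hle : A y ≤ U := (hAV y hy).trans inf_le_right
      haveI := QCoh.finite_sections hG ((hA y hy).preimage_of_isOpenImmersion U.ι (by rwa [Scheme.Opens.opensRange_ι]))
      obtain ⟨S, hS⟩ := (inferInstance : Module.Finite Γ((U : Scheme.{u}), U.ι ⁻¹ᵁ A y) Γ(G, U.ι ⁻¹ᵁ A y)).fg_top
      refine ⟨(show Finset Γ(M, A y) from S), eq_top_iff.2 fun m₀ _ => ?_⟩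
      suffices key : ∀ m : Γ(G, U.ι ⁻¹ᵁ A y),
          m ∈ Submodule.span Γ((U : Scheme.{u}), U.ι ⁻¹ᵁ A y) (S : Set Γ(G, U.ι ⁻¹ᵁ A y)) →
          (show Γ(M, A y) from m) ∈ Submodule.span Γ(X, A y) ((show Finset Γ(M, A y) from S) : Set Γ(M, A y)) from
        key m₀ (by rw [hS]; trivial)
      intro m hm
      have hsurj : Function.Surjective (U.ι.app (A y)) := by
        haveI : IsIso (U.ι.app (A y)) := U.ι.isIso_app _ (by rwa [Scheme.Opens.opensRange_ι])
        exact (ConcreteCategory.bijective_of_isIso (U.ι.app (A y))).2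
      induction hm using Submodule.span_induction with
      | mem x hx => exact Submodule.subset_span hx
      | zero => exact zero_mem _
      | add a b _ _ ha hb => exact add_mem ha hb
      | smul a x _ hx =>
        obtain ⟨r, rfl⟩ := hsurj a
        exact Submodule.smul_mem _ r hx
    choose! S hS using hgen
    -- a common denominator
    let T : Set X.functionField := ⋃ y ∈ t, ⋃ k, (fun g : Γ(M, A y) =>
      if h : genericPoint X ∈ A y then b.repr (M.presheaf.germ (A y) _ h g) k else 0) '' (S y : Set Γ(M, A y))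
    have hT : T.Finite := Set.Finite.biUnion t.finite_toSet fun y _ => Set.finite_iUnion fun k =>
      (S y).finite_toSet.image _
    obtain ⟨f, hf⟩ := IsLocalization.exist_integer_multiples_of_finset (nonZeroDivisors Γ(X, V.1)) hT.toFinset
    let φ : X.functionField := algebraMap Γ(X, V.1) X.functionField f.1
    have hφ : φ ≠ 0 := IsFractionRing.to_map_ne_zero_of_mem_nonZeroDivisors f.2
    have hint : ∀ (y : X) (hy : y ∈ V.1) (r : Γ(X, V.1)),
        CDiv6.Reg y (algebraMap Γ(X, V.1) X.functionField r) := fun y hy r =>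
      ⟨X.presheaf.germ V.1 y hy r, TopCat.Presheaf.germ_stalkSpecializes_apply X.presheaf hy (spec y) r⟩
    have hreg : ∀ (s : Γ(M, V.1)) (k), ∀ y ∈ V.1 ⊓ U,
        CDiv6.Reg y (φ * b.repr (M.presheaf.germ V.1 _ hηV s) k) := by
      intro s k z hz
      obtain ⟨y, hy, hzA⟩ := Set.mem_iUnion₂.1 (ht hz)
      have hyVU := htV y hy
      have hz' : z ∈ A y := hzA
      have hle : A y ≤ V.1 := (hAV y hyVU).trans inf_le_left
      have hηA := generic_mem hz'
      have hs : AModX.res M hle s ∈ Submodule.span Γ(X, A y) (S y : Set Γ(M, A y)) := by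
        rw [hS y hyVU]; trivial
      rw [← RefX.germ_res M hle hηA s]
      generalize AModX.res M hle s = s' at hs ⊢
      induction hs using Submodule.span_induction with
      | mem g hg =>
        obtain ⟨r, hr⟩ := hf _ (hT.mem_toFinset.2 (Set.mem_biUnion hy (Set.mem_iUnion.2 ⟨k, g, hg, dif_pos hηA⟩)))
        have h1 : φ * b.repr (M.presheaf.germ (A y) _ hηA g) k = algebraMap Γ(X, V.1) X.functionField r :=
          (Algebra.smul_def f.1 (b.repr (M.presheaf.germ (A y) _ hηA g) k)).symm.trans hr.symm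
        rw [h1]
        exact hint z hz.1 r
      | zero => exact ⟨0, by rw [map_zero, map_zero, map_zero, Finsupp.zero_apply, mul_zero]⟩
      | add g g' _ _ hg hg' =>
        obtain ⟨u, hu⟩ := hg
        obtain ⟨v, hv⟩ := hg'
        exact ⟨u + v, by rw [map_add, map_add, map_add, Finsupp.add_apply, mul_add, hu, hv]⟩
      | smul r g _ hg =>
        obtain ⟨u, hu⟩ := hg
        refine ⟨X.presheaf.germ (A y) z hz' r * u, ?_⟩
        rw [map_mul, hu, QCoh.germ_smul', map_smul, Finsupp.smul_apply, smul_eq_mul, ← mul_assoc, ← mul_assoc]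
        congr 1
        rw [mul_comm]
        congr 1
        exact TopCat.Presheaf.germ_stalkSpecializes_apply X.presheaf hz' (spec z) r
    have hex : ∀ (s : Γ(M, V.1)) (k), ∃ r : Γ(X, V.1),
        algebraMap Γ(X, V.1) X.functionField r = φ * b.repr (M.presheaf.germ V.1 _ hηV s) k := by
      intro s k
      obtain ⟨r, hr⟩ := exists_section_of_reg (W := V.1 ⊓ U) ⟨hηV, hη⟩ _ (hreg s k)
      obtain ⟨r', hr'⟩ := ((RefX.extendsAcross_unit hU) V.1).2 r
      refine ⟨r', ?_⟩
      rw [← hr]
      have h1 : X.presheaf.map (homOfLE (inf_le_left : V.1 ⊓ U ≤ V.1)).op r' = r := hr'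
      rw [← h1, X.presheaf.germ_res_apply]
      rfl
    choose F hF using hex
    have hinj : Function.Injective (algebraMap Γ(X, V.1) X.functionField) := IsFractionRing.injective _ _
    let L : Γ(M, V.1) →ₗ[Γ(X, V.1)] (Fin (Module.finrank X.functionField (M.presheaf.stalk (genericPoint X))) → Γ(X, V.1)) :=
      { toFun := F
        map_add' := fun s s' => funext fun k => hinj (by
          rw [Pi.add_apply, map_add, hF, hF, hF, map_add, map_add, Finsupp.add_apply, mul_add])
        map_smul' := fun r s => funext fun k => hinj (by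
          rw [RingHom.id_apply, Pi.smul_apply, smul_eq_mul, map_mul, hF, hF, QCoh.germ_smul', map_smul,
            Finsupp.smul_apply, smul_eq_mul, mul_left_comm]
          rfl) }
    refine Module.Finite.of_injective L ((injective_iff_map_eq_zero L).2 fun s hs => ?_)
    refine (hext V.1).1 ((ZClosLib.section_ext M _ _ fun y hy => ?_).trans (map_zero _).symm)
    haveI := htf y hy.2
    refine toGen_injective hq y ?_
    rw [toGen_germ, RefX.germ_res, map_zero, map_zero]
    refine b.repr.injective ?_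
    rw [map_zero]
    refine Finsupp.ext fun k => ?_
    have h1 : F s k = 0 := congrFun hs k
    have h2 := hF s k
    rw [h1, map_zero] at h2
    exact (mul_eq_zero.1 h2.symm).resolve_left hφ
  refine ⟨hcoh, ?_⟩
  have hdd := RefX.extendsAcross_reflexive (isCoh_ddual hcoh) (isReflexive_ddual hcoh) hU
  have hbij : ∀ y ∈ U, Function.Bijective (RefHull.stalkMapₗ (RefHull.bidualMap M) y) := fun y hy =>
    (RefX.stalkMap_bidual_bijective_iff hcoh y).2 (hfinr y hy).2
  show IsIso (RefHull.bidualMap M)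
  refine Scheme.Modules.Hom.isIso_iff_isIso_app.2 fun W => ?_
  rw [ConcreteCategory.isIso_iff_bijective]
  let ψ := RefHull.bidualMap M
  have h2 : (AModX.res (RefHull.ddual M) (inf_le_left : W ⊓ U ≤ W)) ∘ (ψ.app W : Γ(M, W) → Γ(RefHull.ddual M, W)) =
      (ψ.app (W ⊓ U) : Γ(M, W ⊓ U) → Γ(RefHull.ddual M, W ⊓ U)) ∘ AModX.res M (inf_le_left : W ⊓ U ≤ W) :=
    funext fun m => (AModX.app_res ψ inf_le_left m).symm
  refine (Function.Bijective.of_comp_iff' (hdd W) _).1 ?_
  rw [h2]
  refine Function.Bijective.comp ?_ (hext W)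
  exact TopCat.Presheaf.app_bijective_of_stalkFunctor_map_bijective (F := ⟨M.presheaf, M.isSheaf⟩)
    (G := ⟨(RefHull.ddual M).presheaf, (RefHull.ddual M).isSheaf⟩) ⟨ψ.mapPresheaf⟩ (W ⊓ U) fun y hy => hbij y hy.2

end Groth.Agent.Div86.Ref
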