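import Groth.Agent.Div86.Ref.Tensor
import Groth.Agent.CAlgOdd.AuslanderBuchsbaum
import Groth.Agent.RegLoc6.Serre
import Groth.Agent.RegLoc6.Normal
import Groth.Agent.LC.ExtDim
import Mathlib.AlgebraicGeometry.Properties

/-!
# Reflexive modules of rank one on regular schemes of dimension at most two
-/

set_option autoImplicit false
set_option linter.style.haveILetI false
set_option backward.isDefEq.respectTransparency false
set_option backward.isDefEq.respectTransparency.types false

universe u

open CategoryTheory AlgebraicGeometry TopologicalSpace Groth.Agent.H23 Groth.Agent.InvX IsLocalRing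

namespace Groth.Agent.Div86.Ref

/-- Over a regular local ring of dimension at most two, a module of depth at least two is free. -/
theorem free_of_two_le_depth (R : Type u) [CommRing R] [IsRegularLocalRing R] (hR : ringKrullDim R ≤ 2)
    (M : Type u) [AddCommGroup M] [Module R M] [Module.Finite R M] [Nontrivial M]
    (hM : (2 : ℕ∞) ≤ LocCoh.depth R M) : Module.Free R M := by
  classical
  have hpd : ∃ e, RegLoc6.PdLE R e M := ⟨_, RegLoc6.pdLE_of_isRegularLocalRing R M⟩
  have h := CAlgOdd.AB.depth_add_eq (Nat.find hpd) M (Nat.find_spec hpd) fun e he => Nat.find_min hpd he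
  have hle : LocCoh.depth R R ≤ 2 := by
    have := ((LC.depth_le_supportDim (R := R) R).trans (Module.supportDim_le_ringKrullDim R R)).trans hR
    exact WithBot.coe_le_coe.1 this
  have h0 : Nat.find hpd = 0 := by
    rw [← h] at hle
    obtain ⟨a, ha⟩ := ENat.ne_top_iff_exists.1 (ne_top_of_le_ne_top (ENat.coe_ne_top 2)
      (le_self_add.trans hle))
    rw [← ha] at hle hM
    have h1 : a + Nat.find hpd ≤ 2 := by exact_mod_cast hle
    have h2 : 2 ≤ a := by exact_mod_cast hM
    omega
  haveI : Module.Projective R M := RegLoc6.pdLE_zero_iff.1 (h0 ▸ Nat.find_spec hpd)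
  exact Module.free_of_flat_of_isLocalRing

variable {X : Scheme.{u}}

lemma ringKrullDim_stalk_le (x : X) : ringKrullDim (X.presheaf.stalk x) ≤ topologicalKrullDim X := by
  rw [ringKrullDim_stalk_eq_coheight, topologicalKrullDim,
    Order.krullDim_eq_of_orderIso (irreducibleSetEquivPoints (α := X))]
  exact Order.coheight_le_krullDim x

lemma isNormal_of_regular [IsIntegral X] (hreg : ∀ x : X, IsRegularLocalRing (X.presheaf.stalk x)) :
    Pi1.IsNormalScheme X := fun x => by
  haveI := hreg x
  exact ⟨inferInstance, RegLoc6.isIntegrallyClosed_of_isRegularLocalRing _⟩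

variable [IsIntegral X] [IsLocallyNoetherian X] {F : X.Modules}

lemma isGen_of_free_stalk (hF : Coh.IsCoh F) (htf : TorSh.IsTorsionFree F) (hgen : RefHull.GenInvertible F)
    (x : X) [Module.Free (X.presheaf.stalk x) (F.presheaf.stalk x)] :
    ∃ t : F.presheaf.stalk x, RatSec.IsGen t ∧ RatSec.IsGen (toGen F x t) := by
  classical
  haveI := htf x
  haveI := finite_stalk hF x
  obtain ⟨g, hg⟩ := exists_isGen_generic hgen
  have hinj := toGen_injective hF.1 x
  let b := Module.Free.chooseBasis (X.presheaf.stalk x) (F.presheaf.stalk x)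
  have hne : ∀ i, toGen F x (b i) ≠ 0 := fun i h => b.ne_zero i (hinj (h.trans (map_zero _).symm))
  have hsub : ∀ i j, i = j := fun i j => by
    by_contra hij
    obtain ⟨c, hc⟩ := exists_coord_gen (isGen_of_ne_zero hg (hne i)) (toGen F x (b j))
    obtain ⟨a, d, hd, rfl⟩ := IsFractionRing.div_surjective (A := X.presheaf.stalk x) c
    have hd' : algebraMap (X.presheaf.stalk x) X.functionField d ≠ 0 :=
      (map_ne_zero_iff _ (IsFractionRing.injective _ _)).2 (nonZeroDivisors.ne_zero hd)
    have h1 : d • b j = a • b i := hinj (by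
      rw [toGen_smul, toGen_smul, ← hc, smul_smul, mul_comm, div_mul_cancel₀ _ hd'])
    have h2 := congrArg (fun v => b.repr v j) h1
    simp only [map_smul, Module.Basis.repr_self, Finsupp.smul_single, smul_eq_mul, mul_one,
      Finsupp.single_eq_same, Finsupp.single_eq_of_ne (Ne.symm hij)] at h2
    exact nonZeroDivisors.ne_zero hd h2
  obtain ⟨i⟩ : Nonempty (Module.Free.ChooseBasisIndex (X.presheaf.stalk x) (F.presheaf.stalk x)) := by
    by_contra hemp
    haveI := not_nonempty_iff.1 hemp
    obtain ⟨a, ha, m, hm⟩ := exists_smul_mem_range hF.1 x g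
    have hm0 : m = 0 := b.repr.injective (Subsingleton.elim _ _)
    rw [hm0, map_zero] at hm
    refine (map_ne_zero_iff _ (IsFractionRing.injective (X.presheaf.stalk x) X.functionField)).2 ha ?_
    exact hg.2 _ hm.symm
  haveI : Subsingleton (Module.Free.ChooseBasisIndex (X.presheaf.stalk x) (F.presheaf.stalk x)) := ⟨hsub⟩
  refine ⟨b i, ⟨?_, fun a ha => (smul_eq_zero.1 ha).resolve_right (b.ne_zero i)⟩, isGen_of_ne_zero hg (hne i)⟩
  refine le_antisymm le_top (b.span_eq.ge.trans (Submodule.span_mono ?_))
  rintro _ ⟨j, rfl⟩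
  rw [hsub j i]
  exact Set.mem_singleton _

/-- A reflexive module of rank one on a regular scheme of dimension at most two is invertible. -/
theorem isInvertible_of_ref1 (hreg : ∀ x : X, IsRegularLocalRing (X.presheaf.stalk x))
    (hdim : topologicalKrullDim X ≤ 2) (hF : RefHull.IsRef1 F) : PicF.IsInvertible F := by
  have hX := isNormal_of_regular hreg
  have htf := isTorsionFree_of_reflexive hF.1 hF.2.1
  refine InvX.isInvertible_of_frames fun x => ?_
  rcases point_cases x with rfl | hx | hd
  · obtain ⟨U, hU, e, he⟩ := exists_frame_generic hF.2.2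
    exact ⟨U, hU, e, he⟩
  · exact exists_frame_codim_one hX hF hx
  · haveI := hreg x
    haveI := finite_stalk hF.1 x
    haveI := htf x
    haveI : Nontrivial (F.presheaf.stalk x) := by
      obtain ⟨g, hg⟩ := exists_isGen_generic hF.2.2
      obtain ⟨a, ha, m, hm⟩ := exists_smul_mem_range hF.1.1 x g
      refine ⟨⟨m, 0, fun h => (map_ne_zero_iff _
        (IsFractionRing.injective (X.presheaf.stalk x) X.functionField)).2 ha (hg.2 _ ?_)⟩⟩
      rw [← hm, h, map_zero]
    haveI := free_of_two_le_depth (X.presheaf.stalk x)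
      ((ringKrullDim_stalk_le x).trans hdim) (F.presheaf.stalk x)
      (two_le_depth_ref hX hd hF.1 hF.2.1)
    obtain ⟨t, ht, htg⟩ := isGen_of_free_stalk hF.1 htf hF.2.2 x
    obtain ⟨U, hU, e, he, -⟩ := exists_frame_of_isGen hF.1 htf ht htg
    exact ⟨U, hU, e, he⟩

end Groth.Agent.Div86.Ref
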