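import Groth.Agent.Div86.Ref.Codim
import Groth.Agent.RefX.Ext

/-!
# Extending maps of generic stalks across codimension two
-/

set_option autoImplicit false
set_option linter.style.haveILetI false
set_option backward.isDefEq.respectTransparency false
set_option backward.isDefEq.respectTransparency.types false

universe u

open CategoryTheory AlgebraicGeometry TopologicalSpace Groth.Agent.H23 IsLocalRing

namespace Groth.Agent.Div86.Ref

variable {X : Scheme.{u}} {F G : X.Modules}

/-- A global section of the sheaf Hom as a morphism. -/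
noncomputable def homOfSect (g : Γ(RefHull.homSh F G, ⊤)) : F ⟶ G :=
  ⟨PresheafOfModules.homMk
    { app := fun V => AddCommGrpCat.ofHom (AddMonoidHom.mk' (RefX.app (le_top : V.unop ≤ ⊤) g)
        fun a b => RefX.app_add le_top g a b)
      naturality := fun {V W} i => by
        ext m
        exact (RefX.res_app le_top i.unop.le g m).symm }
    fun V r m => RefX.app_smul le_top g r m⟩

lemma stalkMap_homOfSect (g : Γ(RefHull.homSh F G, ⊤)) (x : X) :
    RefHull.stalkMapₗ (homOfSect g) x = g.1 ⟨x, trivial⟩ := by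
  refine LinearMap.ext fun v => ?_
  obtain ⟨U, hx, m, rfl⟩ := TopCat.Presheaf.exists_germ_eq F.presheaf v
  rw [RefHull.stalkMapₗ_germ]
  exact RefX.germ_app le_top g m hx

variable [IsIntegral X] [IsLocallyNoetherian X] (hX : Pi1.IsNormalScheme X)

include hX in
/-- A generic element coming from all stalks of codimension one is a global section. -/
theorem exists_section {M : X.Modules} (hM : Coh.IsCoh M) (hr : RefHull.IsReflexive M)
    (m : M.presheaf.stalk (genericPoint X))
    (h : ∀ x : X, Order.coheight x = 1 → m ∈ Set.range (toGen M x)) :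
    ∃ s : Γ(M, ⊤), M.presheaf.germ ⊤ (genericPoint X) trivial s = m := by
  have htf := isTorsionFree_of_reflexive hM hr
  let S := {x : X // x = genericPoint X ∨ Order.coheight x = 1}
  have hloc : ∀ x : S, ∃ (V : X.Opens) (hV : x.1 ∈ V) (s : Γ(M, V)),
      M.presheaf.germ V (genericPoint X) (generic_mem hV) s = m := by
    rintro ⟨x, rfl | hx⟩
    · obtain ⟨V, hV, s, hs⟩ := TopCat.Presheaf.exists_germ_eq M.presheaf m
      exact ⟨V, hV, s, hs⟩
    · obtain ⟨v, hv⟩ := h x hx
      obtain ⟨V, hV, s, rfl⟩ := TopCat.Presheaf.exists_germ_eq M.presheaf v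
      exact ⟨V, hV, s, (toGen_germ hV s).symm.trans hv⟩
  choose V hV s hs using hloc
  let η : S := ⟨genericPoint X, Or.inl rfl⟩
  obtain ⟨t, ht, -⟩ := AModX.existsUnique_glue (M := M) (V := ⨆ x, V x) V (le_iSup V)
    (fun p hp => Opens.mem_iSup.1 hp) s fun a b => by
      refine sect_ext hM.1 htf (show genericPoint X ∈ V a ⊓ V b from ⟨generic_mem (hV a), generic_mem (hV b)⟩) ?_
      rw [RefX.germ_res, RefX.germ_res, hs, hs]
  have hU : ∀ x : X, x ∉ (⨆ x, V x) → (2 : ℕ∞) ≤ LocCoh.depth (X.presheaf.stalk x) (X.presheaf.stalk x) := by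
    intro x hx
    rcases point_cases x with h1 | h1 | h1
    · exact absurd (Opens.mem_iSup.2 ⟨⟨x, Or.inl h1⟩, hV ⟨x, _⟩⟩) hx
    · exact absurd (Opens.mem_iSup.2 ⟨⟨x, Or.inr h1⟩, hV ⟨x, _⟩⟩) hx
    · exact two_le_depth hX h1
  obtain ⟨s', hs'⟩ := ((RefX.extendsAcross_reflexive hM hr hU) ⊤).2 (AModX.res M inf_le_right t)
  refine ⟨s', ?_⟩
  have hη : genericPoint X ∈ ⨆ x, V x := Opens.mem_iSup.2 ⟨η, hV η⟩
  have h1 := congrArg (M.presheaf.germ (⊤ ⊓ ⨆ x, V x) (genericPoint X) ⟨trivial, hη⟩) hs'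
  rw [RefX.germ_res, RefX.germ_res] at h1
  rw [h1, ← hs η, ← ht η, RefX.germ_res]

include hX in
/-- A map of generic stalks preserving the stalks in codimension one extends. -/
theorem exists_hom (hG : Coh.IsCoh G) (hF : Coh.IsCoh F) (hr : RefHull.IsReflexive F)
    (T : RefHull.StalkHom G F (genericPoint X))
    (h : ∀ x : X, Order.coheight x = 1 → Set.MapsTo T (Set.range (toGen G x)) (Set.range (toGen F x))) :
    ∃ ψ : G ⟶ F, RefHull.stalkMapₗ ψ (genericPoint X) = T := by
  have hFP := QCoh.isCoh_iff_isFP.1 hG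
  have htf := isTorsionFree_of_reflexive hF hr
  obtain ⟨m, hm⟩ := (RefX.evalStalk_bijective (G := F) hFP (genericPoint X)).2 T
  obtain ⟨g, hg⟩ := exists_section hX (RefX.isCoh_homSh hG hF) (S16081.result X G F hG hF hr) m
    fun x hx => by
      haveI := htf x
      have hinj := toGen_injective hF.1 x
      choose θ hθ using fun v : G.presheaf.stalk x => h x hx ⟨v, rfl⟩
      let θ' : RefHull.StalkHom G F x :=
        { toFun := θ
          map_add' := fun a b => hinj (by rw [hθ, map_add, map_add, map_add, hθ, hθ])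
          map_smul' := fun a b => hinj (by rw [hθ, toGen_smul, map_smul, RingHom.id_apply, toGen_smul, hθ]) }
      obtain ⟨n, hn⟩ := (RefX.evalStalk_bijective (G := F) hFP x).2 θ'
      refine ⟨n, (RefX.evalStalk_bijective (G := F) hFP (genericPoint X)).1 ?_⟩
      rw [hm]
      refine stalkHom_ext_gen hG.1 x fun v => ?_
      have h1 : RefHull.evalStalk G F x n v = θ v := LinearMap.congr_fun hn v
      rw [← hθ v, ← h1]
      obtain ⟨U, hU, q, rfl⟩ := TopCat.Presheaf.exists_germ_eq (RefHull.homSh G F).presheaf n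
      obtain ⟨W, hW, w, rfl⟩ := TopCat.Presheaf.exists_germ_eq G.presheaf v
      rw [← RefX.germ_res G (inf_le_right : U ⊓ W ≤ W) ⟨hU, hW⟩ w, RefHull.evalStalk_germ, toGen_germ,
        toGen_germ, RefHull.evalStalk_germ,
        ← RefX.germ_app (inf_le_left : U ⊓ W ≤ U) q (AModX.res G inf_le_right w) ⟨hU, hW⟩, toGen_germ,
        RefX.germ_app]
  refine ⟨homOfSect g, ?_⟩
  rw [stalkMap_homOfSect, ← hm, ← hg, RefHull.evalStalk_germ]

include hX in
/-- Mutually inverse generic maps preserving the codimension-one stalks give an isomorphism. -/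
theorem nonempty_iso (hF : Coh.IsCoh F) (hFr : RefHull.IsReflexive F) (hG : Coh.IsCoh G)
    (hGr : RefHull.IsReflexive G) (T : RefHull.StalkHom G F (genericPoint X))
    (T' : RefHull.StalkHom F G (genericPoint X)) (hTT' : ∀ w, T (T' w) = w) (hT'T : ∀ w, T' (T w) = w)
    (h : ∀ x : X, Order.coheight x = 1 → Set.MapsTo T (Set.range (toGen G x)) (Set.range (toGen F x)))
    (h' : ∀ x : X, Order.coheight x = 1 → Set.MapsTo T' (Set.range (toGen F x)) (Set.range (toGen G x))) :
    Nonempty (F ≅ G) := by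
  obtain ⟨ψ, hψ⟩ := exists_hom hX hG hF hFr T h
  obtain ⟨χ, hχ⟩ := exists_hom hX hF hG hGr T' h'
  have key : ∀ {A B : X.Modules} (p : A ⟶ B) (q : B ⟶ A), Coh.IsCoh A → RefHull.IsReflexive A →
      (∀ w, RefHull.stalkMapₗ q (genericPoint X) (RefHull.stalkMapₗ p (genericPoint X) w) = w) →
      p ≫ q = 𝟙 A := by
    intro A B p q hA hAr hpq
    refine hom_ext_gen hA.1 (isTorsionFree_of_reflexive hA hAr) (LinearMap.ext fun w => ?_)
    obtain ⟨U, hU, m, rfl⟩ := TopCat.Presheaf.exists_germ_eq A.presheaf w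
    have h1 := hpq (A.presheaf.germ U (genericPoint X) hU m)
    rw [RefHull.stalkMapₗ_germ, RefHull.stalkMapₗ_germ] at h1
    rw [RefHull.stalkMapₗ_germ, RefHull.stalkMapₗ_germ]
    exact h1
  exact ⟨⟨χ, ψ, key χ ψ hF hFr (by rw [hψ, hχ]; exact hTT'), key ψ χ hG hGr (by rw [hψ, hχ]; exact hT'T)⟩⟩

end Groth.Agent.Div86.Ref
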