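import Groth.Agent.Div86.Ref.EffIdeal

/-!
# Every Weil divisor comes from a rank one reflexive module
-/

set_option autoImplicit false
set_option linter.style.haveILetI false
set_option backward.isDefEq.respectTransparency false
set_option backward.isDefEq.respectTransparency.types false

universe u

open CategoryTheory AlgebraicGeometry TopologicalSpace Groth.Agent.H23 Groth.Agent.InvX IsLocalRing

namespace Groth.Agent.Div86.Ref

variable {X : Scheme.{u}} [IsIntegral X] {F G : X.Modules}

lemma evalStalk_toGen {x : X} (n : (RefHull.homSh F G).presheaf.stalk x) (v : F.presheaf.stalk x) :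
    RefHull.evalStalk F G (genericPoint X) (toGen (RefHull.homSh F G) x n) (toGen F x v) =
      toGen G x (RefHull.evalStalk F G x n v) := by
  obtain ⟨U, hU, q, rfl⟩ := TopCat.Presheaf.exists_germ_eq (RefHull.homSh F G).presheaf n
  obtain ⟨W, hW, w, rfl⟩ := TopCat.Presheaf.exists_germ_eq F.presheaf v
  rw [← RefX.germ_res F (inf_le_right : U ⊓ W ≤ W) ⟨hU, hW⟩ w, RefHull.evalStalk_germ, toGen_germ,
    toGen_germ, RefHull.evalStalk_germ,
    ← RefX.germ_app (inf_le_left : U ⊓ W ≤ U) q (AModX.res F inf_le_right w) ⟨hU, hW⟩, toGen_germ,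
    RefX.germ_app]

lemma toGen_unitStalk {x : X} (a : X.presheaf.stalk x) :
    toGen (Coh.structureModule X) x (RefX.unitStalk x a) =
      RefX.unitStalk (genericPoint X) (algebraMap (X.presheaf.stalk x) X.functionField a) := by
  have h := toGen_smul a ((Coh.structureModule X).presheaf.germ ⊤ x trivial
    (show Γ(Coh.structureModule X, ⊤) from (1 : Γ(X, ⊤))))
  rw [toGen_germ] at h
  exact h

variable [IsLocallyNoetherian X]

omit [IsLocallyNoetherian X] in
lemma genInvertible_of_isGen (hF : Coh.IsCoh F) (htf : TorSh.IsTorsionFree F)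
    {g : F.presheaf.stalk (genericPoint X)} (hg : RatSec.IsGen g) : RefHull.GenInvertible F := by
  obtain ⟨U, hU, e, he, -⟩ := exists_frame_of_isGen (x := genericPoint X) hF htf hg (by
    obtain ⟨V, hV, s, rfl⟩ := TopCat.Presheaf.exists_germ_eq F.presheaf g
    rw [toGen_germ]
    exact hg)
  exact genInvertible_of_frame hU he

lemma isRef1_unit : RefHull.IsRef1 (Coh.structureModule X) :=
  ⟨RefX.isCoh_unit, isReflexive_unit, genInvertible_of_frame (U := ⊤) trivial (isFrame_one ⊤)⟩

lemma sord_unit {x : X} (hx : Order.coheight x = 1) :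
    sord (Coh.structureModule X) x (RefX.unitStalk (genericPoint X) (1 : X.functionField)) = 0 := by
  have h := sord_frame (F := Coh.structureModule X) hx (isFrame_one ⊤) (x := x) trivial
    (one_ne_zero (α := X.functionField))
  have h1 := ord_unit (X := X) (x := x) isUnit_one
  rw [map_one] at h1
  rw [h1] at h
  exact h

variable (hX : Pi1.IsNormalScheme X)

lemma isRef1_dual (hF : RefHull.IsRef1 F) : RefHull.IsRef1 (RefHull.dual F) := by
  have hc := RefX.isCoh_dual hF.1
  have hr := isReflexive_dual hF.1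
  refine ⟨hc, hr, ?_⟩
  obtain ⟨g, hg⟩ := exists_isGen_generic hF.2.2
  let η := genericPoint X
  let ev := LinearEquiv.ofBijective (LinearMap.toSpanSingleton (X.presheaf.stalk η) _ g)
    ⟨fun a b hab => sub_eq_zero.1 (hg.2 _ (by rw [sub_smul]; exact sub_eq_zero.2 hab)),
      fun w => exists_coord_gen hg w⟩
  let θ := (RefX.dualStalk (QCoh.isCoh_iff_isFP.1 hF.1) η).symm ev.symm.toLinearMap
  refine genInvertible_of_isGen hc (isTorsionFree_of_reflexive hc hr) (g := θ) ⟨eq_top_iff.2 fun w _ => ?_, fun a ha => ?_⟩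
  · refine Submodule.mem_span_singleton.2 ⟨RefX.dualStalk (QCoh.isCoh_iff_isFP.1 hF.1) η w g,
      (RefX.dualStalk (QCoh.isCoh_iff_isFP.1 hF.1) η).injective ?_⟩
    rw [map_smul, LinearEquiv.apply_symm_apply]
    refine LinearMap.ext fun v => ?_
    obtain ⟨c, rfl⟩ := ev.surjective v
    show _ * ev.symm (ev c) = _
    rw [ev.symm_apply_apply, show ev c = c • g from rfl, map_smul, smul_eq_mul]
    exact mul_comm _ _
  · have h1 := LinearMap.congr_fun (congrArg (RefX.dualStalk (QCoh.isCoh_iff_isFP.1 hF.1) η) ha) (ev 1)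
    rw [map_smul, LinearEquiv.apply_symm_apply, map_zero] at h1
    have h2 : a * ev.symm (ev 1) = 0 := h1
    rwa [ev.symm_apply_apply, mul_one] at h2

include hX in
/-- The dual has the opposite divisor. -/
theorem exists_sord_dual (hF : RefHull.IsRef1 F) {m : F.presheaf.stalk (genericPoint X)} (hm : m ≠ 0) :
    ∃ w : (RefHull.dual F).presheaf.stalk (genericPoint X), w ≠ 0 ∧
      ∀ x : X, Order.coheight x = 1 → sord (RefHull.dual F) x w = - sord F x m := by
  obtain ⟨g, hg⟩ := exists_isGen_generic hF.2.2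
  have hm' := isGen_of_ne_zero hg hm
  have hFP := QCoh.isCoh_iff_isFP.1 hF.1
  let η := genericPoint X
  let ev := LinearEquiv.ofBijective (LinearMap.toSpanSingleton (X.presheaf.stalk η) _ m)
    ⟨fun a b hab => sub_eq_zero.1 (hm'.2 _ (by rw [sub_smul]; exact sub_eq_zero.2 hab)),
      fun w => exists_coord_gen hm' w⟩
  let w := (RefX.dualStalk hFP η).symm ev.symm.toLinearMap
  have hw : RefX.dualStalk hFP η w = ev.symm.toLinearMap := LinearEquiv.apply_symm_apply _ _
  have hwm : RefX.dualStalk hFP η w m = 1 := by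
    rw [hw]
    exact (congrArg ev.symm (one_smul (X.presheaf.stalk η) m).symm).trans (ev.symm_apply_apply 1)
  refine ⟨w, fun h => ?_, fun x hx => ?_⟩
  · rw [h, map_zero] at hwm
    exact one_ne_zero (α := X.functionField) hwm.symm
  obtain ⟨t, φ, ht, htg, hφ, hmt⟩ := exists_coord hX hF hx hm
  let et := LinearEquiv.ofBijective (LinearMap.toSpanSingleton (X.presheaf.stalk x) _ t)
    ⟨fun a b hab => sub_eq_zero.1 (ht.2 _ (by rw [sub_smul]; exact sub_eq_zero.2 hab)),
      fun v => Submodule.mem_span_singleton.1 (ht.1.ge (Submodule.mem_top : v ∈ ⊤))⟩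
  let t' := (RefX.dualStalk hFP x).symm et.symm.toLinearMap
  have hd' : RefX.dualStalk hFP x t' = et.symm.toLinearMap := LinearEquiv.apply_symm_apply _ _
  have ht' : RatSec.IsGen t' := by
    refine ⟨eq_top_iff.2 fun v _ => ?_, fun a ha => ?_⟩
    · refine Submodule.mem_span_singleton.2 ⟨RefX.dualStalk hFP x v t, (RefX.dualStalk hFP x).injective ?_⟩
      rw [map_smul, hd']
      refine LinearMap.ext fun u => ?_
      obtain ⟨c, rfl⟩ := et.surjective u
      show _ * et.symm (et c) = _
      rw [et.symm_apply_apply, show et c = c • t from rfl, map_smul, smul_eq_mul]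
      exact mul_comm _ _
    · have h1 := LinearMap.congr_fun (congrArg (RefX.dualStalk hFP x) ha) (et 1)
      rw [map_smul, hd', map_zero] at h1
      have h2 : a * et.symm (et 1) = 0 := h1
      rwa [et.symm_apply_apply, mul_one] at h2
  have hval : RefX.dualStalk hFP η (toGen (RefHull.dual F) x t') (toGen F x t) = 1 := by
    show (RefX.unitStalk η).symm (RefHull.evalStalk F _ η (toGen (RefHull.dual F) x t') (toGen F x t)) = 1
    rw [evalStalk_toGen, LinearEquiv.symm_apply_eq]
    have h1 : RefHull.evalStalk F (Coh.structureModule X) x t' t = RefX.unitStalk x 1 := by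
      have h2 : (RefX.unitStalk x).symm (RefHull.evalStalk F (Coh.structureModule X) x t' t) = et.symm t :=
        LinearMap.congr_fun hd' t
      rw [← (RefX.unitStalk x).symm_apply_eq, h2]
      exact (congrArg et.symm (one_smul (X.presheaf.stalk x) t).symm).trans (et.symm_apply_apply 1)
    rw [h1, toGen_unitStalk, map_one]
  have hwt : w = φ⁻¹ • toGen (RefHull.dual F) x t' := by
    refine (RefX.dualStalk hFP η).injective (LinearMap.ext fun v => ?_)
    obtain ⟨c, rfl⟩ := exists_coord_gen hm' v
    rw [map_smul, map_smul, hwm, map_smul, LinearMap.smul_apply]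
    conv_rhs => rw [hmt, map_smul, hval]
    simp only [smul_eq_mul, mul_one]
    exact (show (c : X.functionField) = c * (φ⁻¹ * φ) by rw [inv_mul_cancel₀ hφ, mul_one])
  have hinj : RatSec.IsGen (toGen (RefHull.dual F) x t') := by
    obtain ⟨g', hg'⟩ := exists_isGen_generic (isRef1_dual hF).2.2
    refine isGen_of_ne_zero hg' fun h => ?_
    rw [h, map_zero] at hval
    exact one_ne_zero (α := X.functionField) hval.symm
  rw [hwt, sord_gen hx ht' hinj (inv_ne_zero hφ), hmt, sord_gen hx ht htg hφ, ord_inv hφ]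

include hX in
/-- Effective divisors. -/
theorem exists_ref1_neg (E : X → ℕ) (hE : LocFin E) (hE1 : ∀ x, E x ≠ 0 → Order.coheight x = 1) :
    ∃ (G : X.Modules) (_ : RefHull.IsRef1 G) (w : G.presheaf.stalk (genericPoint X)), w ≠ 0 ∧
      ∀ x : X, Order.coheight x = 1 → sord G x w = - (E x : ℤ) := by
  let J := ClSub.idealMod (effIdeal E hE)
  have hJ := isCoh_effMod E hE
  have htf := isTorsionFree_effMod E hE
  obtain ⟨g, hg⟩ := exists_isGen_generic (genInvertible_effMod hE hE1)
  obtain ⟨U, hU, e, he⟩ := exists_frame_generic (genInvertible_effMod hE hE1)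
  have hG := isRef1_ddual hJ hU he
  set vg : X.functionField := val E hE (genericPoint X) g with hvg
  have hvg0 : vg ≠ 0 := fun h => by
    have : g = 0 := val_injective E hE _ (h.trans (map_zero _).symm)
    exact one_ne_zero (α := X.functionField) (hg.2 1 (by rw [this, smul_zero]))
  let j1 : J.presheaf.stalk (genericPoint X) := vg⁻¹ • g
  have hj1 : val E hE (genericPoint X) j1 = (1 : X.functionField) := by
    rw [map_smul, smul_eq_mul]
    exact inv_mul_cancel₀ hvg0
  have hj10 : j1 ≠ 0 := fun h => one_ne_zero (α := X.functionField) (by rw [← hj1, h, map_zero])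
  let w := RefHull.stalkMapₗ (RefHull.bidualMap J) (genericPoint X) j1
  refine ⟨_, hG, w, fun h => hj10 ((bidual_bijective_generic hJ).1 (h.trans (map_zero _).symm)), fun x hx => ?_⟩
  obtain ⟨t, ht, hvt, hord⟩ := exists_gen_effMod hE hE1 hX hx
  haveI := htf x
  have htg : RatSec.IsGen (toGen J x t) := isGen_of_ne_zero hg fun h =>
    hvt (by rw [toGen_injective hJ.1 x (h.trans (map_zero _).symm), map_zero])
  set a := algebraMap (X.presheaf.stalk x) X.functionField (val E hE x t) with ha
  have ha0 : a ≠ 0 := (map_ne_zero_iff _ (IsFractionRing.injective _ _)).2 hvt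
  have hval : (val E hE (genericPoint X) (toGen J x t) : X.functionField) = a := by
    obtain ⟨V, hV, k, rfl⟩ := TopCat.Presheaf.exists_germ_eq J.presheaf t
    rw [ha, toGen_germ, val_germ, val_germ]
    exact (TopCat.Presheaf.germ_stalkSpecializes_apply X.presheaf hV (spec x) _).symm
  have hjt : j1 = a⁻¹ • toGen J x t := val_injective E hE _ (by
    rw [hj1, map_smul, hval, smul_eq_mul]
    exact (inv_mul_cancel₀ ha0).symm)
  obtain ⟨V, hV, f, hf, hft⟩ := exists_frame_of_isGen hJ htf ht htg
  have key : w = a⁻¹ • (RefHull.ddual J).presheaf.germ V (genericPoint X) (generic_mem hV)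
      ((RefHull.bidualMap J).app V f) := by
    rw [show w = RefHull.stalkMapₗ (RefHull.bidualMap J) (genericPoint X) j1 from rfl, hjt, map_smul, ← hft,
      toGen_germ, RefHull.stalkMapₗ_germ]
  rw [key, sord_frame hx (isFrame_bidual hJ hf) hV (inv_ne_zero ha0), ord_inv ha0, hord]

include hX in
/-- Every locally finite divisor. -/
theorem exists_ref1 (D : X → ℤ) (hD : ∀ x, D x ≠ 0 → Order.coheight x = 1)
    (hfin : ∀ p : X, ∃ N ∈ nhds p, (N ∩ Function.support D).Finite) :
    ∃ (G : X.Modules) (_ : RefHull.IsRef1 G) (w : G.presheaf.stalk (genericPoint X)), w ≠ 0 ∧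
      ∀ x : X, Order.coheight x = 1 → sord G x w = D x := by
  have hE : ∀ (s : ℤ → ℕ), s 0 = 0 → LocFin (fun x => s (D x)) ∧ ∀ x, s (D x) ≠ 0 → Order.coheight x = 1 := by
    intro s hs
    refine ⟨fun p => ?_, fun x hx => hD x fun h => hx (by rw [h, hs])⟩
    obtain ⟨N, hN, hf⟩ := hfin p
    exact ⟨N, hN, hf.subset fun x hx => ⟨hx.1, fun h => hx.2 (by show s (D x) = 0; rw [h, hs])⟩⟩
  obtain ⟨hP, hP1⟩ := hE Int.toNat rfl
  obtain ⟨hN, hN1⟩ := hE (fun z => (-z).toNat) rfl
  obtain ⟨A, hA, a, ha0, ha⟩ := exists_ref1_neg hX _ hP hP1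
  obtain ⟨B, hB, b, hb0, hb⟩ := exists_ref1_neg hX _ hN hN1
  obtain ⟨a', ha'0, ha'⟩ := exists_sord_dual hX hA ha0
  obtain ⟨w, hw0, hw⟩ := exists_sord_add hX (isRef1_dual hA) hB ha'0 hb0
  refine ⟨_, isRef1_ddual_tensor (isRef1_dual hA) hB, w, hw0, fun x hx => ?_⟩
  rw [hw x hx, ha' x hx, ha x hx, hb x hx]
  have := Int.toNat_sub_toNat_neg (D x)
  omega

end Groth.Agent.Div86.Ref
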