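import Groth.Agent.RefX.Reflexive
import Groth.Agent.Div86.GenOrd
import Groth.Agent.InvUfdLib.Extend
import Groth.Agent.InvX.Frame
import Groth.Agent.CAlgOdd.Reflexive
import Groth.Prelude.Def_TorSh

/-!
# Stalks of coherent modules inside the generic stalk
-/

set_option autoImplicit false
set_option linter.style.haveILetI false
set_option backward.isDefEq.respectTransparency false
set_option backward.isDefEq.respectTransparency.types false

universe u

open CategoryTheory AlgebraicGeometry TopologicalSpace Groth.Agent.H23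

namespace Groth.Agent.Div86.Ref

variable {X : Scheme.{u}} [IsIntegral X] {F G : X.Modules}

lemma spec (x : X) : genericPoint X ⤳ x := (genericPoint_spec X).specializes trivial

/-- From a stalk to the generic stalk. -/
noncomputable abbrev toGen (F : X.Modules) (x : X) :
    F.presheaf.stalk x →+ F.presheaf.stalk (genericPoint X) :=
  (F.presheaf.stalkSpecializes (spec x)).hom

lemma generic_mem {U : X.Opens} {x : X} (hx : x ∈ U) : genericPoint X ∈ U :=
  (spec x).mem_open U.2 hx

lemma toGen_germ {U : X.Opens} {x : X} (hx : x ∈ U) (m : Γ(F, U)) :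
    toGen F x (F.presheaf.germ U x hx m) = F.presheaf.germ U (genericPoint X) (generic_mem hx) m :=
  TopCat.Presheaf.germ_stalkSpecializes_apply F.presheaf hx (spec x) m

lemma toGen_smul {x : X} (a : X.presheaf.stalk x) (m : F.presheaf.stalk x) :
    toGen F x (a • m) = (algebraMap (X.presheaf.stalk x) X.functionField a) • toGen F x m :=
  ZeroSec.stalkSpecializes_smul F (spec x) a m

lemma toGen_natural (φ : F ⟶ G) {x : X} (m : F.presheaf.stalk x) :
    RefHull.stalkMapₗ φ (genericPoint X) (toGen F x m) = toGen G x (RefHull.stalkMapₗ φ x m) := by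
  obtain ⟨U, hx, n, rfl⟩ := TopCat.Presheaf.exists_germ_eq F.presheaf m
  rw [toGen_germ, RefHull.stalkMapₗ_germ, RefHull.stalkMapₗ_germ, toGen_germ]

/-- Every element of the generic stalk has a nonzero multiple from the stalk. -/
lemma exists_smul_mem_range (hF : Coh.IsQCoh F) (x : X) (w : F.presheaf.stalk (genericPoint X)) :
    ∃ a : X.presheaf.stalk x, a ≠ 0 ∧ ∃ m, toGen F x m =
      (algebraMap (X.presheaf.stalk x) X.functionField a) • w := by
  obtain ⟨V, hV, hx, -⟩ := exists_isAffineOpen_mem_and_subset (x := x) (U := ⊤) trivial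
  have hη := generic_mem hx
  letI := QCoh.stalkAlg (X := X) hη
  letI := QCoh.stalkModule F hη
  haveI := QCoh.isScalarTower_stalk F hη
  haveI := QCoh.isLocalizedModule_germLin hF hV hη
  obtain ⟨⟨n, s⟩, hns⟩ := IsLocalizedModule.surj (hV.primeIdealOf ⟨_, hη⟩).asIdeal.primeCompl
    (QCoh.germLin F hη) w
  have hgerm : algebraMap (X.presheaf.stalk x) X.functionField (X.presheaf.germ V x hx s.1) =
      X.presheaf.germ V (genericPoint X) hη s.1 :=
    TopCat.Presheaf.germ_stalkSpecializes_apply X.presheaf hx (spec x) s.1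
  refine ⟨X.presheaf.germ V x hx s.1, fun h0 => s.2 ?_, F.presheaf.germ V x hx n, ?_⟩
  · haveI : Nonempty V := ⟨⟨x, hx⟩⟩
    have : s.1 = 0 := germ_injective_of_isIntegral X x hx (h0.trans (map_zero _).symm)
    rw [this]
    exact zero_mem _
  · rw [toGen_germ, hgerm]
    exact hns.symm.trans (algebraMap_smul (X.presheaf.stalk (genericPoint X)) s.1 w).symm

/-- The kernel of the map to the generic stalk is torsion. -/
lemma exists_smul_eq_zero (hF : Coh.IsQCoh F) {x : X} {m : F.presheaf.stalk x} (h : toGen F x m = 0) :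
    ∃ a : X.presheaf.stalk x, a ≠ 0 ∧ a • m = 0 := by
  obtain ⟨V, hV, hx, -⟩ := exists_isAffineOpen_mem_and_subset (x := x) (U := ⊤) trivial
  have hη := generic_mem hx
  letI := QCoh.stalkAlg (X := X) hη
  letI := QCoh.stalkModule F hη
  haveI := QCoh.isLocalizedModule_germLin hF hV hη
  letI := QCoh.stalkAlg (X := X) hx
  letI := QCoh.stalkModule F hx
  haveI := QCoh.isScalarTower_stalk F hx
  haveI := QCoh.isLocalizedModule_germLin hF hV hx
  obtain ⟨⟨n, t⟩, hnt⟩ := IsLocalizedModule.surj (hV.primeIdealOf ⟨x, hx⟩).asIdeal.primeCompl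
    (QCoh.germLin F hx) m
  dsimp only at hnt
  have hnt' : X.presheaf.germ V x hx t.1 • m = F.presheaf.germ V x hx n :=
    (algebraMap_smul (X.presheaf.stalk x) t.1 m).trans hnt
  have h1 : QCoh.germLin F hη n = 0 := by
    show F.presheaf.germ V _ hη n = 0
    rw [← toGen_germ hx n, ← hnt', toGen_smul, h, smul_zero]
  obtain ⟨s, hs⟩ := (IsLocalizedModule.eq_zero_iff (hV.primeIdealOf ⟨_, hη⟩).asIdeal.primeCompl
    (QCoh.germLin F hη)).1 h1
  haveI : Nonempty V := ⟨⟨x, hx⟩⟩
  have hne : ∀ r : Γ(X, V), r ≠ 0 → X.presheaf.germ V x hx r ≠ 0 := fun r hr h0 =>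
    hr (germ_injective_of_isIntegral X x hx (h0.trans (map_zero _).symm))
  refine ⟨X.presheaf.germ V x hx s.1 * X.presheaf.germ V x hx t.1,
    mul_ne_zero (hne _ fun h0 => s.2 (h0 ▸ zero_mem _)) (hne _ fun h0 => t.2 (h0 ▸ zero_mem _)), ?_⟩
  rw [mul_smul, hnt', ← QCoh.germ_smul' F hx]
  exact (congrArg (F.presheaf.germ V x hx) (show s.1 • n = 0 from hs)).trans (map_zero _)

lemma toGen_injective (hF : Coh.IsQCoh F) (x : X)
    [Module.IsTorsionFree (X.presheaf.stalk x) (F.presheaf.stalk x)] :
    Function.Injective (toGen F x) :=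
  (injective_iff_map_eq_zero _).2 fun _ hm => by
    obtain ⟨a, ha, ham⟩ := exists_smul_eq_zero hF hm
    exact (smul_eq_zero.1 ham).resolve_left ha

/-- Linear forms out of a stalk agree once they agree on the generic stalk. -/
lemma stalkHom_ext_gen (hF : Coh.IsQCoh F) (x : X) {T T' : RefHull.StalkHom F G (genericPoint X)}
    (h : ∀ m, T (toGen F x m) = T' (toGen F x m)) : T = T' := by
  refine LinearMap.ext fun w => ?_
  obtain ⟨a, ha, m, hm⟩ := exists_smul_mem_range hF x w
  have ha' : algebraMap (X.presheaf.stalk x) X.functionField a ≠ 0 :=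
    (map_ne_zero_iff _ (IsFractionRing.injective _ _)).2 ha
  have h1 := h m
  rw [hm, map_smul, map_smul] at h1
  exact smul_right_injective _ ha' h1

/-- Torsion-free sections are determined at the generic point. -/
lemma sect_ext (hF : Coh.IsQCoh F) (htf : TorSh.IsTorsionFree F) {V : X.Opens} (hη : genericPoint X ∈ V)
    {s t : Γ(F, V)} (h : F.presheaf.germ V _ hη s = F.presheaf.germ V _ hη t) : s = t := by
  refine ZClosLib.section_ext F _ _ fun y hy => ?_
  haveI := htf y
  refine toGen_injective hF y ?_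
  rw [toGen_germ, toGen_germ]
  exact h

/-- Morphisms to a torsion-free module are determined at the generic point. -/
lemma hom_ext_gen (hG : Coh.IsQCoh G) (htf : TorSh.IsTorsionFree G) {φ ψ : F ⟶ G}
    (h : RefHull.stalkMapₗ φ (genericPoint X) = RefHull.stalkMapₗ ψ (genericPoint X)) : φ = ψ := by
  refine Scheme.Modules.hom_ext _ _ fun V => ?_
  ext m
  refine ZClosLib.section_ext G _ _ fun y hy => ?_
  haveI := htf y
  refine toGen_injective hG y ?_
  rw [toGen_germ, toGen_germ, ← RefHull.stalkMapₗ_germ, ← RefHull.stalkMapₗ_germ, h]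

lemma isTorsionFree_of_reflexive [IsLocallyNoetherian X] (hF : Coh.IsCoh F) (hr : RefHull.IsReflexive F) :
    TorSh.IsTorsionFree F := fun x => by
  haveI : Module.IsReflexive (X.presheaf.stalk x) (F.presheaf.stalk x) :=
    (RefX.isReflexive_iff hF).1 hr x
  exact CAlgOdd.Refl.isTorsionFree_of_injective
    (Module.Dual.eval (X.presheaf.stalk x) (F.presheaf.stalk x))
    (Module.bijective_dual_eval _ _).1

/-- A generically invertible module has a frame around the generic point. -/
lemma exists_frame_generic (hF : RefHull.GenInvertible F) :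
    ∃ (U : X.Opens) (_ : genericPoint X ∈ U) (e : Γ(F, U)), InvX.IsFrame e := by
  obtain ⟨U, hd, hinv⟩ := hF
  obtain ⟨x, hx⟩ : (U : Set X).Nonempty := hd.nonempty
  obtain ⟨W, hW, e, he⟩ := InvX.exists_frame hinv ⟨_, generic_mem hx⟩
  exact ⟨U.ι ''ᵁ W, ⟨_, hW, rfl⟩, e, InvUfdLib.isFrame_of_restrict U.ι he⟩

lemma exists_isGen_generic (hF : RefHull.GenInvertible F) :
    ∃ g : F.presheaf.stalk (genericPoint X), RatSec.IsGen g := by
  obtain ⟨U, hU, e, he⟩ := exists_frame_generic hF
  exact ⟨_, RatSec.isGen_germ he _ hU⟩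

lemma exists_coord_gen {g : F.presheaf.stalk (genericPoint X)} (hg : RatSec.IsGen g)
    (w : F.presheaf.stalk (genericPoint X)) : ∃ c : X.functionField, c • g = w :=
  Submodule.mem_span_singleton.1 (hg.1.ge (Submodule.mem_top : w ∈ ⊤))

lemma isGen_of_ne_zero {g : F.presheaf.stalk (genericPoint X)} (hg : RatSec.IsGen g)
    {w : F.presheaf.stalk (genericPoint X)} (hw : w ≠ 0) : RatSec.IsGen w := by
  obtain ⟨c, rfl⟩ := exists_coord_gen hg w
  refine hg.smul_unit (isUnit_iff_ne_zero (G₀ := X.functionField) |>.2 fun h => hw ?_)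
  rw [h]; exact zero_smul _ _

end Groth.Agent.Div86.Ref
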