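import Groth.Agent.Div86.Ref.Tensor
import Groth.Agent.S1692

/-!
# Divisors of elements of rank one reflexive modules
-/

set_option autoImplicit false
set_option linter.style.haveILetI false
set_option backward.isDefEq.respectTransparency false
set_option backward.isDefEq.respectTransparency.types false

universe u

open CategoryTheory AlgebraicGeometry TopologicalSpace Groth.Agent.H23 Groth.Agent.InvX IsLocalRing

namespace Groth.Agent.Div86.Ref

variable {X : Scheme.{u}} [IsIntegral X] [IsLocallyNoetherian X]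

lemma ord_inv {f : X.functionField} (hf : f ≠ 0) (x : X) : Scheme.ord f⁻¹ x = - Scheme.ord f x := by
  have h1 : Scheme.ord (1 : X.functionField) x = 0 := by
    have := ord_unit (X := X) (x := x) isUnit_one
    rwa [map_one] at this
  have h2 := Scheme.ord_mul (X := X) (x := x) hf (inv_ne_zero hf)
  rw [mul_inv_cancel₀ hf, h1] at h2
  linarith

variable (hX : Pi1.IsNormalScheme X)

include hX in
lemma isUnit_of_ord_eq_zero {x : X} (hx : Order.coheight x = 1) {a : X.presheaf.stalk x} (ha : a ≠ 0)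
    (h : Scheme.ord (algebraMap (X.presheaf.stalk x) X.functionField a) x = 0) : IsUnit a := by
  have ha' : algebraMap (X.presheaf.stalk x) X.functionField a ≠ 0 :=
    (map_ne_zero_iff _ (IsFractionRing.injective _ _)).2 ha
  obtain ⟨b, hb⟩ := CDiv6.reg_of_ord_nonneg hX hx (inv_ne_zero ha') (by rw [ord_inv ha', h]; simp)
  refine IsUnit.of_mul_eq_one b (IsFractionRing.injective (X.presheaf.stalk x) X.functionField ?_)
  rw [map_mul, hb, mul_inv_cancel₀ ha', map_one]

lemma finite_ord_support {f : X.functionField} (hf : f ≠ 0) (p : X) :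
    ∃ N ∈ nhds p, (N ∩ {x | Order.coheight x = 1 ∧ Scheme.ord f x ≠ 0}).Finite := by
  obtain ⟨N, hN, hfin⟩ := Groth.Agent.S1692.result X f hf p
  refine ⟨N, hN, (hfin.image Subtype.val).subset ?_⟩
  rintro x ⟨hxN, hx⟩
  exact ⟨⟨x, hx⟩, ⟨x, subset_closure rfl, hxN⟩, rfl⟩

include hX in
lemma finite_codim_one_compl {U : X.Opens} (hU : genericPoint X ∈ U) (p : X) :
    ∃ N ∈ nhds p, (N ∩ {x | Order.coheight x = 1 ∧ x ∉ U}).Finite := by
  obtain ⟨A, hA, hpA, -⟩ := exists_isAffineOpen_mem_and_subset (x := p) (U := ⊤) trivial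
  obtain ⟨f, hfU, hfη⟩ := hA.exists_basicOpen_le (V := U) ⟨genericPoint X, hU⟩ (generic_mem hpA)
  have hf0 : (X.presheaf.germ A (genericPoint X) (generic_mem hpA) f : X.functionField) ≠ 0 :=
    ((X.mem_basicOpen f _ (generic_mem hpA)).1 hfη).ne_zero
  obtain ⟨N, hN, hfin⟩ := finite_ord_support hf0 p
  refine ⟨N ∩ A, Filter.inter_mem hN (A.2.mem_nhds hpA), hfin.subset ?_⟩
  rintro x ⟨⟨hxN, hxA⟩, hx, hxU⟩
  refine ⟨hxN, hx, fun h0 => hxU (hfU ((X.mem_basicOpen f x hxA).2 ?_))⟩
  have hkey : algebraMap (X.presheaf.stalk x) X.functionField (X.presheaf.germ A x hxA f) =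
      X.presheaf.germ A (genericPoint X) (generic_mem hpA) f :=
    TopCat.Presheaf.germ_stalkSpecializes_apply X.presheaf hxA (spec x) f
  refine isUnit_of_ord_eq_zero hX hx (fun hh => hf0 ?_) (by rw [hkey]; exact h0)
  rw [← hkey, hh, map_zero]

include hX in
theorem finite_sord_support {F : X.Modules} (hF : RefHull.IsRef1 F) {m : F.presheaf.stalk (genericPoint X)}
    (hm : m ≠ 0) (p : X) :
    ∃ N ∈ nhds p, (N ∩ {x | Order.coheight x = 1 ∧ sord F x m ≠ 0}).Finite := by
  obtain ⟨U, hU, e, he⟩ := exists_frame_generic hF.2.2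
  obtain ⟨φ, rfl⟩ := exists_coord_gen (RatSec.isGen_germ he _ hU) m
  have hφ : φ ≠ 0 := fun h => hm (by rw [h]; exact zero_smul _ _)
  obtain ⟨N₁, hN₁, h₁⟩ := finite_ord_support hφ p
  obtain ⟨N₂, hN₂, h₂⟩ := finite_codim_one_compl hX hU p
  refine ⟨N₁ ∩ N₂, Filter.inter_mem hN₁ hN₂, (h₁.union h₂).subset ?_⟩
  rintro x ⟨⟨hx1, hx2⟩, hx, hne⟩
  by_cases hxU : x ∈ U
  · exact Or.inl ⟨hx1, hx, by rwa [sord_frame hx he hxU hφ] at hne⟩
  · exact Or.inr ⟨hx2, hx, hxU⟩

include hX in
/-- The divisor of a nonzero element of the generic stalk. -/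
theorem exists_cycle {F : X.Modules} (hF : RefHull.IsRef1 F) {m : F.presheaf.stalk (genericPoint X)}
    (hm : m ≠ 0) :
    ∃ D : AlgebraicCycle X ℤ, (∀ x : X, Order.coheight x ≠ 1 → D x = 0) ∧
      ∀ x : X, Order.coheight x = 1 → D x = sord F x m := by
  classical
  refine ⟨
    { toFun := fun x => if Order.coheight x = 1 then sord F x m else 0
      supportWithinDomain' := fun _ _ => trivial
      supportLocallyFiniteWithinDomain' := fun p _ => ?_ }, fun x hx => if_neg hx, fun x hx => if_pos hx⟩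
  obtain ⟨N, hN, hfin⟩ := finite_sord_support hX hF hm p
  refine ⟨N, hN, hfin.subset ?_⟩
  rintro x ⟨hxN, hx⟩
  by_cases h : Order.coheight x = 1
  · exact ⟨hxN, h, by rwa [Function.mem_support, if_pos h] at hx⟩
  · exact absurd (if_neg h) hx

end Groth.Agent.Div86.Ref
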