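import Groth.Agent.RefX.Reflexive
import Groth.Agent.InvX.Pullback
import Groth.Agent.InvX.Tensor
import Groth.Agent.ArSurfX.Frames

/-!
# Dual frames
-/

set_option autoImplicit false
set_option linter.style.haveILetI false
set_option backward.isDefEq.respectTransparency false
set_option backward.isDefEq.respectTransparency.types false

universe u

open CategoryTheory AlgebraicGeometry TopologicalSpace Groth.Agent.InvX Groth.Agent.AModX

namespace Groth.Agent.Div86.Ref

variable {X : Scheme.{u}} {M : X.Modules}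

/-- The coordinate of the stalk in a frame. -/
noncomputable def frameCoord {U : X.Opens} {e : Γ(M, U)} (he : IsFrame e) (y : X) (hy : y ∈ U) :
    M.presheaf.stalk y →ₗ[X.presheaf.stalk y] (Coh.structureModule X).presheaf.stalk y :=
  (RefX.unitStalk y).toLinearMap ∘ₗ
    (LinearEquiv.ofBijective (LinearMap.toSpanSingleton (X.presheaf.stalk y) _ (M.presheaf.germ U y hy e))
      (show Function.Bijective (LinearMap.toSpanSingleton (X.presheaf.stalk y) _ (M.presheaf.germ U y hy e)) from
        he.germ_bijective hy)).symm.toLinearMap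

lemma frameCoord_smul {U : X.Opens} {e : Γ(M, U)} (he : IsFrame e) (y : X) (hy : y ∈ U) (c : X.presheaf.stalk y) :
    frameCoord he y hy (c • M.presheaf.germ U y hy e) = RefX.unitStalk y c := by
  rw [frameCoord, LinearMap.comp_apply]
  exact congrArg (RefX.unitStalk y) (LinearEquiv.symm_apply_apply (LinearEquiv.ofBijective
    (LinearMap.toSpanSingleton (X.presheaf.stalk y) _ (M.presheaf.germ U y hy e)) (he.germ_bijective hy : _)) c)

lemma unitStalk_germ {V : X.Opens} {y : X} (hy : y ∈ V) (r : Γ(X, V)) :
    RefX.unitStalk y (X.presheaf.germ V y hy r) =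
      (Coh.structureModule X).presheaf.germ V y hy (show Γ(Coh.structureModule X, V) from r) := by
  show X.presheaf.germ V y hy r • (Coh.structureModule X).presheaf.germ ⊤ y trivial
    (show Γ(Coh.structureModule X, ⊤) from (1 : Γ(X, ⊤))) = _
  rw [← RefX.germ_res (Coh.structureModule X) (le_top : V ≤ ⊤) hy, ← QCoh.germ_smul']
  congr 1
  show r * resR (le_top : V ≤ ⊤) 1 = r
  rw [map_one, mul_one]

lemma isLocSect_frameCoord {U : X.Opens} {e : Γ(M, U)} (he : IsFrame e) :
    RefHull.IsLocSect M (Coh.structureModule X) (fun y : U => frameCoord he y.1 y.2) := fun V i m x => by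
  obtain ⟨r, hr⟩ := he.exists_coord i.le m
  refine ⟨V, x.2, 𝟙 V, (show Γ(Coh.structureModule X, V) from r), fun y => ?_⟩
  show frameCoord he y.1 _ (M.presheaf.germ V y.1 _ m) = _
  rw [hr, QCoh.germ_smul', RefX.germ_res, frameCoord_smul, unitStalk_germ]

/-- The dual of a frame. -/
noncomputable def dualFr {U : X.Opens} {e : Γ(M, U)} (he : IsFrame e) : Γ(RefHull.dual M, U) :=
  ⟨fun y : U => frameCoord he y.1 y.2, isLocSect_frameCoord he⟩

/-- The dual of a frame is a frame. -/
theorem isFrame_dualFr {U : X.Opens} {e : Γ(M, U)} (he : IsFrame e) : IsFrame (dualFr he) := fun V hV => by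
  refine ⟨fun a b hab => ?_, fun g => ?_⟩
  · refine TopCat.Presheaf.section_ext X.sheaf V _ _ fun y hy => ?_
    apply (RefX.unitStalk y).injective
    have h := congrArg (fun φ : Γ(RefHull.dual M, V) => φ.1 ⟨y, hy⟩ (M.presheaf.germ U y (hV hy) e)) hab
    simp only [RefX.smul_val, LinearMap.smul_apply] at h
    change X.presheaf.germ V y hy a • frameCoord he y (hV hy) (M.presheaf.germ U y (hV hy) e) =
      X.presheaf.germ V y hy b • frameCoord he y (hV hy) (M.presheaf.germ U y (hV hy) e) at h
    rw [← LinearMap.map_smul, ← LinearMap.map_smul, frameCoord_smul, frameCoord_smul] at h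
    exact h
  · refine ⟨(show Γ(X, V) from RefX.app le_rfl g (AModX.res M hV e)), RefX.sect_ext fun y => LinearMap.ext fun v => ?_⟩
    obtain ⟨c, rfl⟩ := (he.germ_bijective (hV y.2)).2 v
    rw [RefX.smul_val, LinearMap.smul_apply]
    show _ • frameCoord he y.1 (hV y.2) (c • M.presheaf.germ U y.1 (hV y.2) e) = _
    rw [frameCoord_smul, ← LinearEquiv.map_smul, smul_eq_mul, mul_comm, ← smul_eq_mul, LinearEquiv.map_smul,
      unitStalk_germ, LinearMap.map_smul]
    congr 1
    rw [← RefX.germ_res M hV y.2 e]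
    exact RefX.germ_app le_rfl g _ y.2

/-- Transition functions of dual frames. -/
theorem dualFr_transition {U U' : X.Opens} {e : Γ(M, U)} {e' : Γ(M, U')} (he : IsFrame e) (he' : IsFrame e')
    {W : X.Opens} (h : W ≤ U) (h' : W ≤ U') {g : Γ(X, W)} (hg : res M h' e' = g • res M h e) :
    res (RefHull.dual M) h (dualFr he) = g • res (RefHull.dual M) h' (dualFr he') := by
  refine RefX.sect_ext fun y => LinearMap.ext fun v => ?_
  obtain ⟨c, rfl⟩ := (he'.germ_bijective (h' y.2)).2 v
  rw [RefX.smul_val, RefX.res_val, RefX.res_val, LinearMap.smul_apply]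
  show frameCoord he y.1 (h y.2) (c • M.presheaf.germ U' y.1 (h' y.2) e') =
    X.presheaf.germ W y.1 y.2 g • frameCoord he' y.1 (h' y.2) (c • M.presheaf.germ U' y.1 (h' y.2) e')
  rw [frameCoord_smul, LinearMap.map_smul, ← RefX.germ_res M h' y.2 e', hg, QCoh.germ_smul', RefX.germ_res,
    frameCoord_smul, ← LinearEquiv.map_smul, ← LinearEquiv.map_smul, smul_eq_mul, smul_eq_mul, mul_comm]

variable {Z : Scheme.{u}} (i : Z ⟶ X)

/-- Duals commute with inverse images for invertible modules. -/
theorem nonempty_dual_pullback (hM : PicF.IsInvertible M) :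
    Nonempty (RefHull.dual ((Scheme.Modules.pullback i).obj M) ≅
      (Scheme.Modules.pullback i).obj (RefHull.dual M)) := by
  classical
  choose U hU e he using InvX.exists_frame hM
  refine ArSurfX.nonempty_iso_of_frames (fun a => i ⁻¹ᵁ U a) (fun z => ⟨i z, hU (i z)⟩)
    (fun a => dualFr (InvX.isFrame_pullElt i (he a))) (fun a => isFrame_dualFr _)
    (fun a => InvX.pullElt i (dualFr (he a))) (fun a => InvX.isFrame_pullElt i (isFrame_dualFr _))
    fun a b W ha hb g hg => ?_
  obtain ⟨v, hv⟩ := (he b).exists_coord (inf_le_right : U a ⊓ U b ≤ U b) (res M (inf_le_left : U a ⊓ U b ≤ U a) (e a))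
  have hW : W ≤ i ⁻¹ᵁ (U a ⊓ U b) := le_inf ha hb
  have hpull : ∀ (N : X.Modules) {U' V : X.Opens} (h : V ≤ U') (s : Γ(N, U')),
      InvX.pullElt i (res N h s) = res _ (i.preimage_mono h) (InvX.pullElt i s) := fun N _ _ h s =>
    app_res ((Scheme.Modules.pullbackPushforwardAdjunction i).unit.app N) h s
  have hsm : ∀ (N : X.Modules) (V : X.Opens) (r : Γ(X, V)) (s : Γ(N, V)),
      InvX.pullElt i (r • s) = i.app V r • InvX.pullElt i s := fun N V r s =>
    Scheme.Modules.Hom.app_smul ((Scheme.Modules.pullbackPushforwardAdjunction i).unit.app N) r s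
  have h1 := congrArg (InvX.pullElt i) hv
  rw [hsm, hpull, hpull] at h1
  have h2 := congrArg (res ((Scheme.Modules.pullback i).obj M) hW) h1
  simp only [res_smul] at h2
  have h2' : res ((Scheme.Modules.pullback i).obj M) ha (InvX.pullElt i (e a)) =
      resR hW (i.app _ v) • res ((Scheme.Modules.pullback i).obj M) hb (InvX.pullElt i (e b)) :=
    (res_res _ _ _).symm.trans (h2.trans (congrArg _ (res_res _ _ _)))
  have h3 := dualFr_transition (InvX.isFrame_pullElt i (he b)) (InvX.isFrame_pullElt i (he a)) hb ha h2'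
  rw [(isFrame_dualFr (InvX.isFrame_pullElt i (he a))).coord_unique ha (hg.symm.trans h3)]
  have h4 := congrArg (InvX.pullElt i) (dualFr_transition (he b) (he a) (inf_le_right : U a ⊓ U b ≤ U b) inf_le_left hv)
  rw [hsm, hpull, hpull] at h4
  have h5 := congrArg (res ((Scheme.Modules.pullback i).obj (RefHull.dual M)) hW) h4
  simp only [res_smul] at h5
  exact (res_res _ _ _).symm.trans (h5.trans (congrArg _ (res_res _ _ _)))

end Groth.Agent.Div86.Ref
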