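import Groth.Agent.Div86.Ref.DivFinite
import Groth.Agent.OmegaLib.IdealMod
import Groth.Agent.QCoh.Support

/-!
# The ideal sheaf of an effective Weil divisor
-/

set_option autoImplicit false
set_option linter.style.haveILetI false
set_option backward.isDefEq.respectTransparency false
set_option backward.isDefEq.respectTransparency.types false

universe u

open CategoryTheory AlgebraicGeometry TopologicalSpace Groth.Agent.H23 Groth.Agent.InvX IsLocalRing

namespace Groth.Agent.Div86.Ref

variable {X : Scheme.{u}}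

/-- Sections vanishing to order at least `E` everywhere. -/
noncomputable def secIdeal (E : X → ℕ) (A : X.Opens) : Ideal Γ(X, A) :=
  ⨅ x : A, Ideal.comap (X.presheaf.germ A x.1 x.2).hom (maximalIdeal (X.presheaf.stalk x.1) ^ E x.1)

lemma mem_secIdeal {E : X → ℕ} {A : X.Opens} {r : Γ(X, A)} :
    r ∈ secIdeal E A ↔ ∀ (x : X) (hx : x ∈ A),
      X.presheaf.germ A x hx r ∈ maximalIdeal (X.presheaf.stalk x) ^ E x := by
  simp [secIdeal, Submodule.mem_iInf]

/-- A function with locally finite support. -/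
def LocFin (E : X → ℕ) : Prop := ∀ p : X, ∃ N ∈ nhds p, (N ∩ Function.support E).Finite

lemma finite_support_affine {E : X → ℕ} (hE : LocFin E) {A : X.Opens} (hA : IsAffineOpen A) :
    ((A : Set X) ∩ Function.support E).Finite := by
  classical
  choose N hN hfin using hE
  obtain ⟨t, -, ht⟩ := hA.isCompact.elim_nhds_subcover N fun x _ => hN x
  refine (t.finite_toSet.biUnion fun x _ => hfin x).subset ?_
  rintro x ⟨hxA, hx⟩
  obtain ⟨y, hy, hxy⟩ := Set.mem_iUnion₂.1 (ht hxA)
  exact Set.mem_iUnion₂.2 ⟨y, hy, hxy, hx⟩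

/-- The ideal sheaf of an effective divisor. -/
noncomputable def effIdeal (E : X → ℕ) (hE : LocFin E) : X.IdealSheafData where
  ideal A := secIdeal E A.1
  map_ideal_basicOpen A f := by
    apply le_antisymm
    · rw [Ideal.map_le_iff_le_comap]
      intro r hr
      rw [mem_secIdeal] at hr
      rw [Ideal.mem_comap, mem_secIdeal]
      intro x hx
      exact (germ_resR' (X.basicOpen_le f) hx r).symm ▸ hr x (X.basicOpen_le f hx)
    · intro a ha
      rw [mem_secIdeal] at ha
      haveI := A.2.isLocalization_basicOpen f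
      obtain ⟨⟨b, ⟨_, n, rfl⟩⟩, hb⟩ := IsLocalization.surj (Submonoid.powers f) a
      obtain ⟨k, hk⟩ := ((finite_support_affine hE A.2).image E).bddAbove
      have hmem : f ^ k * b ∈ secIdeal E A.1 := by
        rw [mem_secIdeal]
        intro x hx
        by_cases hxf : x ∈ X.basicOpen f
        · rw [map_mul, ← germ_resR' (X.basicOpen_le f) hxf b]
          refine Ideal.mul_mem_left _ _ ?_
          have hb' : a * AModX.resR (X.basicOpen_le f) (f ^ n) = AModX.resR (X.basicOpen_le f) b := hb
          rw [← hb', map_mul]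
          exact Ideal.mul_mem_right _ _ (ha x hxf)
        · rcases eq_or_ne (E x) 0 with h0 | h0
          · rw [h0, pow_zero, Ideal.one_eq_top]
            trivial
          rw [map_mul, map_pow]
          refine Ideal.mul_mem_right _ _ (Ideal.pow_le_pow_right (hk ⟨x, ⟨hx, h0⟩, rfl⟩) (Ideal.pow_mem_pow ?_ k))
          exact fun hu => hxf ((X.mem_basicOpen f x hx).2 hu)
      have hu : IsUnit (algebraMap Γ(X, A.1) Γ(X, X.basicOpen f) f) :=
        IsLocalization.map_units Γ(X, X.basicOpen f) (⟨f, Submonoid.mem_powers f⟩ : Submonoid.powers f)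
      have h1 := Ideal.mem_map_of_mem (algebraMap Γ(X, A.1) Γ(X, X.basicOpen f)) hmem
      rw [map_mul, ← hb, mul_comm a, ← mul_assoc, ← map_mul, ← pow_add, map_pow] at h1
      exact (Ideal.unit_mul_mem_iff_mem _ (hu.pow _)).1 h1

variable [IsIntegral X]

omit [IsIntegral X] in
lemma eq_of_specializes_codim_one {x y : X} (hy : Order.coheight y = 1) (hx : Order.coheight x ≤ 1)
    (h : y ⤳ x) : y = x := by
  by_contra hne
  have hlt : x < y := lt_of_le_not_ge h fun h' => hne (Specializes.antisymm h h').eq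
  have := Order.coheight_add_one_le hlt
  rw [hy] at this
  exact absurd (this.trans hx) (by decide)

omit [IsIntegral X] in
lemma exists_avoid {E : X → ℕ} (hE : LocFin E) (hE1 : ∀ x, E x ≠ 0 → Order.coheight x = 1)
    {A : X.Opens} (hA : IsAffineOpen A) {x : X} (hx : x ∈ A) (hx1 : Order.coheight x ≤ 1) :
    ∃ c : Γ(X, A), IsUnit (X.presheaf.germ A x hx c) ∧
      ∀ (y : X) (hy : y ∈ A), y ≠ x → X.presheaf.germ A y hy c ∈ maximalIdeal (X.presheaf.stalk y) ^ E y := by
  classical
  have hfin := (finite_support_affine hE hA).subset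
    (Set.sdiff_subset : ((A : Set X) ∩ Function.support E) \ {x} ⊆ _)
  have hloc : ∀ y ∈ hfin.toFinset, ∃ c : Γ(X, A), IsUnit (X.presheaf.germ A x hx c) ∧
      ∀ hy : y ∈ A, X.presheaf.germ A y hy c ∈ maximalIdeal (X.presheaf.stalk y) := by
    intro y hy
    rw [Set.Finite.mem_toFinset] at hy
    obtain ⟨⟨hyA, hy0⟩, hyx⟩ := hy
    let O : X.Opens := ⟨(closure {y})ᶜ, isClosed_closure.isOpen_compl⟩
    have hxO : x ∈ O := fun h => hyx
      (eq_of_specializes_codim_one (hE1 y hy0) hx1 (specializes_iff_mem_closure.2 h))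
    obtain ⟨c, hcO, hxc⟩ := hA.exists_basicOpen_le (V := O) ⟨x, hxO⟩ hx
    refine ⟨c, (X.mem_basicOpen c x hx).1 hxc, fun hy => ?_⟩
    exact fun hu => hcO ((X.mem_basicOpen c y hy).2 hu) (subset_closure rfl)
  choose! c hc1 hc2 using hloc
  refine ⟨∏ y ∈ hfin.toFinset, c y ^ E y, ?_, fun y hy hyx => ?_⟩
  · rw [map_prod]
    exact (IsUnit.prod_iff.2 fun y hy => by rw [map_pow]; exact (hc1 y hy).pow _)
  · rcases eq_or_ne (E y) 0 with h0 | h0
    · rw [h0, pow_zero, Ideal.one_eq_top]
      trivial
    have hmem : y ∈ hfin.toFinset := hfin.mem_toFinset.2 ⟨⟨hy, h0⟩, hyx⟩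
    rw [map_prod, ← Finset.prod_erase_mul _ _ hmem, map_pow]
    exact Ideal.mul_mem_left _ _ (Ideal.pow_mem_pow (hc2 y hmem hy) _)

variable [IsLocallyNoetherian X] (E : X → ℕ) (hE : LocFin E)

omit [IsIntegral X] in
lemma isCoh_effMod : Coh.IsCoh (ClSub.idealMod (effIdeal E hE)) := by
  haveI : IsLocallyNoetherian (effIdeal E hE).subscheme :=
    LocallyOfFiniteType.isLocallyNoetherian (effIdeal E hE).subschemeι
  exact QCoh.isCoh_kernel QCoh.isCoh_structureModule'
    (QCoh.isCoh_pushforward_finite (effIdeal E hE).subschemeι QCoh.isCoh_structureModule') _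

/-- The value of a germ of the ideal module. -/
noncomputable def val (x : X) :
    (ClSub.idealMod (effIdeal E hE)).presheaf.stalk x →ₗ[X.presheaf.stalk x] X.presheaf.stalk x :=
  (RefX.unitStalk x).symm.toLinearMap.comp (RefHull.stalkMapₗ (ClSub.idealModι (effIdeal E hE)) x)

omit [IsIntegral X] [IsLocallyNoetherian X] in
lemma val_germ {U : X.Opens} {x : X} (hx : x ∈ U) (k : Γ(ClSub.idealMod (effIdeal E hE), U)) :
    val E hE x ((ClSub.idealMod (effIdeal E hE)).presheaf.germ U x hx k) =
      X.presheaf.germ U x hx (OmegaSh.idealSect (effIdeal E hE) U k) := by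
  rw [val, LinearMap.comp_apply, LinearEquiv.coe_coe, LinearEquiv.symm_apply_eq, RefHull.stalkMapₗ_germ]
  show _ = (X.presheaf.germ U x hx (OmegaSh.idealSect (effIdeal E hE) U k)) •
    (Coh.structureModule X).presheaf.germ ⊤ x trivial (show Γ(Coh.structureModule X, ⊤) from (1 : Γ(X, ⊤)))
  rw [← germ_res' (le_top : U ≤ ⊤) hx, ← QCoh.germ_smul', OmegaSh.idealSect_apply]
  refine congrArg _ ?_
  show _ = _ * AModX.resR (le_top : U ≤ ⊤) 1
  rw [map_one, mul_one]
  rfl

omit [IsIntegral X] [IsLocallyNoetherian X] in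
lemma val_injective (x : X) : Function.Injective (val E hE x) := by
  refine (injective_iff_map_eq_zero _).2 fun v hv => ?_
  obtain ⟨U, hx, k, rfl⟩ := TopCat.Presheaf.exists_germ_eq (ClSub.idealMod (effIdeal E hE)).presheaf v
  rw [val_germ] at hv
  obtain ⟨W, hW, i, j, h⟩ := TopCat.Presheaf.germ_eq (C := CommRingCat.{u}) X.presheaf x hx hx _ 0
    (hv.trans (map_zero _).symm)
  rw [map_zero] at h
  have h1 : AModX.res (ClSub.idealMod (effIdeal E hE)) i.le k = 0 :=
    OmegaLib.idealSect_injective _ W ((OmegaLib.idealSect_map _ i.le k).trans (h.trans (map_zero _).symm))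
  rw [← germ_res' i.le hW k, h1, map_zero]

lemma isTorsionFree_effMod : TorSh.IsTorsionFree (ClSub.idealMod (effIdeal E hE)) := fun x =>
  CAlgOdd.Refl.isTorsionFree_of_injective (val E hE x) (val_injective E hE x)

variable {E} (hE1 : ∀ x, E x ≠ 0 → Order.coheight x = 1) (hX : Pi1.IsNormalScheme X)

lemma isGen_generic_effMod {w : (ClSub.idealMod (effIdeal E hE)).presheaf.stalk (genericPoint X)}
    (hw : w ≠ 0) : RatSec.IsGen w := by
  have h0 : (val E hE (genericPoint X) w : X.functionField) ≠ 0 := fun h =>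
    hw (val_injective E hE _ (h.trans (map_zero _).symm))
  refine ⟨eq_top_iff.2 fun v _ => ?_, fun a ha => ?_⟩
  · refine Submodule.mem_span_singleton.2 ⟨(show X.functionField from val E hE _ v) /
      (show X.functionField from val E hE _ w), val_injective E hE _ ?_⟩
    rw [map_smul, smul_eq_mul]
    exact div_mul_cancel₀ _ h0
  · have h1 := congrArg (val E hE (genericPoint X)) ha
    rw [map_smul, map_zero, smul_eq_mul] at h1
    exact (mul_eq_zero.1 (show (a : X.functionField) * val E hE _ w = 0 from h1)).resolve_right h0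

include hE1 in
lemma genInvertible_effMod : RefHull.GenInvertible (ClSub.idealMod (effIdeal E hE)) := by
  obtain ⟨A, hA, hηA, -⟩ := exists_isAffineOpen_mem_and_subset (x := genericPoint X) (U := ⊤) trivial
  have hco : Order.coheight (genericPoint X) = 0 := by
    have h2 : ringKrullDim X.functionField = 0 := ringKrullDim_eq_zero_of_isField (Field.toIsField _)
    rw [show ringKrullDim X.functionField = ringKrullDim (X.presheaf.stalk (genericPoint X)) from rfl,
      ringKrullDim_stalk_eq_coheight] at h2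
    exact WithBot.coe_inj.1 h2
  have h0 : Order.coheight (genericPoint X) ≤ 1 := hco.le.trans zero_le
  obtain ⟨c, hc, hc'⟩ := exists_avoid hE hE1 hA hηA h0
  have hmem : c ∈ (effIdeal E hE).ideal ⟨A, hA⟩ := by
    show c ∈ secIdeal E A
    rw [mem_secIdeal]
    intro y hy
    rcases eq_or_ne y (genericPoint X) with rfl | hne
    · rcases eq_or_ne (E (genericPoint X)) 0 with h | h
      · rw [h, pow_zero, Ideal.one_eq_top]
        trivial
      · exact absurd ((hE1 _ h).symm.trans hco) one_ne_zero
    · exact hc' y hy hne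
  obtain ⟨k, hk⟩ := OmegaLib.exists_of_mem (effIdeal E hE) ⟨A, hA⟩ c hmem
  have hw : (ClSub.idealMod (effIdeal E hE)).presheaf.germ A _ hηA k ≠ 0 := fun h => by
    have h1 := congrArg (val E hE (genericPoint X)) h
    rw [val_germ, hk, map_zero] at h1
    exact hc.ne_zero h1
  have hg := isGen_generic_effMod hE hw
  obtain ⟨U, hU, e, he, -⟩ := exists_frame_of_isGen (isCoh_effMod E hE) (isTorsionFree_effMod E hE) hg
    (by rw [toGen_germ]; exact hg)
  exact genInvertible_of_frame hU he

include hE1 hX in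
/-- At a point of codimension one the ideal is generated by an element of order `E x`. -/
lemma exists_gen_effMod {x : X} (hx : Order.coheight x = 1) :
    ∃ t : (ClSub.idealMod (effIdeal E hE)).presheaf.stalk x, RatSec.IsGen t ∧
      val E hE x t ≠ 0 ∧ Scheme.ord (algebraMap (X.presheaf.stalk x) X.functionField (val E hE x t)) x = E x := by
  haveI := CDiv6.isDVR_of_coheight_one hX hx
  haveI := isTorsionFree_effMod E hE x
  obtain ⟨A, hA, hxA, -⟩ := exists_isAffineOpen_mem_and_subset (x := x) (U := ⊤) trivial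
  letI := QCoh.stalkAlg (X := X) hxA
  haveI := QCoh.isLocalization_stalk' hA hxA
  obtain ⟨ϖ, hϖ⟩ := IsDiscreteValuationRing.exists_irreducible (X.presheaf.stalk x)
  obtain ⟨⟨p, s⟩, hps⟩ := IsLocalization.surj (hA.primeIdealOf ⟨x, hxA⟩).asIdeal.primeCompl ϖ
  dsimp only at hps
  have hsu : IsUnit (X.presheaf.germ A x hxA s.1) := IsLocalization.map_units (X.presheaf.stalk x) s
  have hass : Associated (X.presheaf.germ A x hxA p) ϖ :=
    (Associated.symm ⟨hsu.unit, hps⟩)
  obtain ⟨c, hc, hc'⟩ := exists_avoid hE hE1 hA hxA hx.le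
  let r := p ^ E x * c
  have hr : Associated (X.presheaf.germ A x hxA r) (ϖ ^ E x) := by
    rw [map_mul, map_pow]
    exact (associated_mul_unit_left _ _ hc).trans (hass.pow_pow)
  have hspan : maximalIdeal (X.presheaf.stalk x) ^ E x = Ideal.span {X.presheaf.germ A x hxA r} := by
    rw [hϖ.maximalIdeal_eq, Ideal.span_singleton_pow]
    exact Ideal.span_singleton_eq_span_singleton.2 hr.symm
  have hmem : r ∈ (effIdeal E hE).ideal ⟨A, hA⟩ := by
    show r ∈ secIdeal E A
    rw [mem_secIdeal]
    intro y hy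
    rcases eq_or_ne y x with rfl | hne
    · rw [hspan]
      exact Ideal.mem_span_singleton_self _
    · rw [map_mul]
      exact Ideal.mul_mem_left _ _ (hc' y hy hne)
  obtain ⟨k, hk⟩ := OmegaLib.exists_of_mem (effIdeal E hE) ⟨A, hA⟩ r hmem
  let t := (ClSub.idealMod (effIdeal E hE)).presheaf.germ A x hxA k
  have hvt : val E hE x t = X.presheaf.germ A x hxA r := by rw [val_germ, hk]
  have hne : val E hE x t ≠ 0 := by
    rw [hvt]
    exact (hr.ne_zero_iff).2 (pow_ne_zero _ hϖ.ne_zero)
  refine ⟨t, ⟨?_, fun a ha => ?_⟩, hne, ?_⟩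
  · letI := QCoh.stalkModule (ClSub.idealMod (effIdeal E hE)) hxA
    haveI := QCoh.isScalarTower_stalk (ClSub.idealMod (effIdeal E hE)) hxA
    haveI := QCoh.isLocalizedModule_germLin (isCoh_effMod E hE).1 hA hxA
    refine eq_top_iff.2 fun w _ => ?_
    obtain ⟨⟨n, d⟩, hnd⟩ := IsLocalizedModule.surj (hA.primeIdealOf ⟨x, hxA⟩).asIdeal.primeCompl
      (QCoh.germLin (ClSub.idealMod (effIdeal E hE)) hxA) w
    refine (Submodule.smul_mem_iff_of_isUnit _ (IsLocalization.map_units (X.presheaf.stalk x) d)).1 ?_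
    rw [algebraMap_smul]
    refine (congrArg (· ∈ Submodule.span (X.presheaf.stalk x) {t}) hnd).mpr ?_
    have h1 : OmegaSh.idealSect (effIdeal E hE) A n ∈ secIdeal E A :=
      OmegaLib.idealSect_mem (effIdeal E hE) ⟨A, hA⟩ n
    have h2 := mem_secIdeal.1 h1 x hxA
    rw [hspan, Ideal.mem_span_singleton'] at h2
    obtain ⟨b, hb⟩ := h2
    refine Submodule.mem_span_singleton.2 ⟨b, val_injective E hE x ?_⟩
    rw [map_smul, hvt, smul_eq_mul, hb]
    exact (val_germ E hE hxA n).symm
  · exact (smul_eq_zero.1 ha).resolve_right fun h => hne (by rw [h, map_zero])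
  · rw [ord_algebraMap hx hne, hvt, Ring.ord_eq_of_associated hr,
      Ring.ord_pow (mem_nonZeroDivisors_of_ne_zero hϖ.ne_zero), Ring.ord_of_irreducible hϖ]
    simp

end Groth.Agent.Div86.Ref
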