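import Groth.Agent.Div86.Ref.Ord
import Groth.Agent.Div86.IsoDepth

/-!
# The locus where a section generates a rank one reflexive module
-/

set_option autoImplicit false
set_option linter.style.haveILetI false
set_option backward.isDefEq.respectTransparency false
set_option backward.isDefEq.respectTransparency.types false

universe u

open CategoryTheory AlgebraicGeometry TopologicalSpace Groth.Agent.H23 IsLocalRing

namespace Groth.Agent.Div86.Ref

variable {X : Scheme.{u}} [IsIntegral X] [IsLocallyNoetherian X] {F : X.Modules} (hX : Pi1.IsNormalScheme X)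

include hX in
/-- A section generating at all proper generizations of a point of dimension at least two generates there. -/
theorem bijective_of_generizations (hF : RefHull.IsRef1 F) (s : Γ(F, ⊤)) (hs : s ≠ 0) {z : X}
    (hd : (2 : WithBot ℕ∞) ≤ ringKrullDim (X.presheaf.stalk z))
    (h : ∀ y : X, y ⤳ z → y ≠ z →
      Function.Bijective fun a : X.presheaf.stalk y => a • F.presheaf.germ ⊤ y trivial s) :
    Function.Bijective fun a : X.presheaf.stalk z => a • F.presheaf.germ ⊤ z trivial s := by
  have htf := isTorsionFree_of_reflexive hF.1 hF.2.1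
  haveI := htf z
  haveI := finite_stalk hF.1 z
  set g := F.presheaf.germ ⊤ z trivial s
  have hg : g ≠ 0 := fun h0 => hs (sect_ext hF.1.1 htf (V := ⊤) trivial (by
    rw [← toGen_germ (F := F) (U := ⊤) (x := z) trivial s]; exact ((congrArg (toGen F z) h0).trans (map_zero _)).trans (map_zero _).symm))
  let φ := LinearMap.toSpanSingleton (X.presheaf.stalk z) (F.presheaf.stalk z) g
  have hinj : Function.Injective φ := (injective_iff_map_eq_zero φ).2 fun a ha =>
    (smul_eq_zero.1 ha).resolve_right hg
  refine ⟨hinj, surjective_of_depth_two φ hinj (fun Q hQ hQm c => ?_) (two_le_depth hX hd) fun hass => ?_⟩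
  · obtain ⟨V, hxV, n, rfl⟩ := TopCat.Presheaf.exists_germ_eq F.presheaf c
    obtain ⟨A, hA, hzA, hAV⟩ := exists_isAffineOpen_mem_and_subset (x := z) (U := V) hxV
    letI := QCoh.stalkAlg (X := X) hzA
    haveI := QCoh.isLocalization_stalk' hA hzA
    let q := Q.comap (algebraMap Γ(X, A) (X.presheaf.stalk z))
    obtain ⟨y, hy, hyq⟩ := QCoh.exists_point hA ⟨q, Ideal.comap_isPrime _ _⟩
    have hq : (hA.primeIdealOf ⟨y, hy⟩).asIdeal = q := congrArg PrimeSpectrum.asIdeal hyq
    have hle : q ≤ (hA.primeIdealOf ⟨z, hzA⟩).asIdeal := by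
      rw [← IsLocalization.AtPrime.under_maximalIdeal (X.presheaf.stalk z) (hA.primeIdealOf ⟨z, hzA⟩).asIdeal]
      exact Ideal.comap_mono (le_maximalIdeal hQ.ne_top)
    have hyz : y ⤳ z := (AssPtX.primeIdealOf_le_iff hA hy hzA).1 (hq ▸ hle)
    have hne : y ≠ z := fun he => hQm (by
      subst he
      rw [← IsLocalization.map_under (hA.primeIdealOf ⟨y, hy⟩).asIdeal.primeCompl (X.presheaf.stalk y) Q,
        ← IsLocalization.AtPrime.map_eq_maximalIdeal (hA.primeIdealOf ⟨y, hy⟩).asIdeal (X.presheaf.stalk y), hq])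
    obtain ⟨a, ha⟩ := (h y hyz hne).2 (F.presheaf.germ V y (hAV hy) n)
    letI := QCoh.stalkAlg (X := X) hy
    haveI := QCoh.isLocalization_stalk' hA hy
    obtain ⟨⟨m, t⟩, hmt⟩ := IsLocalization.surj (hA.primeIdealOf ⟨y, hy⟩).asIdeal.primeCompl a
    dsimp only at hmt
    refine ⟨X.presheaf.germ A z hzA t.1, fun hmem => t.2 (show t.1 ∈ (hA.primeIdealOf ⟨y, hy⟩).asIdeal from hq.ge hmem),
      X.presheaf.germ A z hzA m, ?_⟩
    show X.presheaf.germ A z hzA m • g = X.presheaf.germ A z hzA t.1 • F.presheaf.germ V z hxV n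
    refine toGen_injective hF.1.1 z ?_
    have h1 : X.presheaf.germ A y hy m • F.presheaf.germ ⊤ y trivial s =
        X.presheaf.germ A y hy t.1 • F.presheaf.germ V y (hAV hy) n := by
      rw [← ha, smul_smul]
      exact congrArg (· • F.presheaf.germ ⊤ y trivial s) (hmt.symm.trans (mul_comm _ _))
    have key : ∀ (x : X) (hx : x ∈ A) (r : Γ(X, A)),
        algebraMap (X.presheaf.stalk x) X.functionField (X.presheaf.germ A x hx r) =
          X.presheaf.germ A (genericPoint X) (generic_mem hx) r := fun x hx r =>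
      TopCat.Presheaf.germ_stalkSpecializes_apply X.presheaf hx (spec x) r
    have h2 := congrArg (toGen F y) h1
    rw [toGen_smul, toGen_smul, toGen_germ, toGen_germ, key, key] at h2
    rw [toGen_smul, toGen_smul, toGen_germ, toGen_germ, key, key]
    exact h2
  · rw [ringKrullDim_eq_zero_of_isField (isField_iff_maximalIdeal_eq.2
      (CAlgOdd.Refl.ass_eq_bot_of_torsionFree hass))] at hd
    exact absurd hd (by decide)

end Groth.Agent.Div86.Ref
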