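import Groth.Agent.Div86.Ref.Ord
import Groth.Agent.AssPtX.Basic

/-!
# Membership in a stalk is decided in codimension one
-/

set_option autoImplicit false
set_option linter.style.haveILetI false
set_option backward.isDefEq.respectTransparency false
set_option backward.isDefEq.respectTransparency.types false

universe u

open CategoryTheory AlgebraicGeometry TopologicalSpace IsLocalRing

namespace Groth.Agent.Div86.Ref

variable {X : Scheme.{u}} [IsIntegral X] [IsLocallyNoetherian X] {M : X.Modules} (hX : Pi1.IsNormalScheme X)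

include hX in
/-- An element of the generic stalk of a reflexive module coming from all codimension one
generizations of a point comes from that point. -/
theorem mem_range_of_codim_one (hM : Coh.IsCoh M) (hr : RefHull.IsReflexive M)
    (m : M.presheaf.stalk (genericPoint X)) {x₀ : X}
    (h : ∀ y : X, y ⤳ x₀ → Order.coheight y = 1 → m ∈ Set.range (toGen M y)) :
    m ∈ Set.range (toGen M x₀) := by
  classical
  have htf := isTorsionFree_of_reflexive hM hr
  obtain ⟨V, hV, hxV, -⟩ := exists_isAffineOpen_mem_and_subset (x := x₀) (U := ⊤) trivial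
  haveI : IsNoetherianRing Γ(X, V) := IsLocallyNoetherian.component_noetherian ⟨V, hV⟩
  suffices key : ∀ P : PrimeSpectrum Γ(X, V), ∀ (x : X) (hx : x ∈ V), hV.primeIdealOf ⟨x, hx⟩ = P → x ⤳ x₀ →
      m ∈ Set.range (toGen M x) from key _ x₀ hxV rfl specializes_rfl
  haveI : WellFoundedLT (PrimeSpectrum Γ(X, V)) :=
    StrictMono.wellFoundedLT (f := fun P : PrimeSpectrum Γ(X, V) => P.asIdeal.height)
      fun P Q hPQ => Ideal.height_strict_mono_of_isPrime_of_isPrime hPQ
  intro P
  induction P using WellFoundedLT.induction with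
  | _ P ih =>
  intro x hx hP hxx
  rcases point_cases x with h1 | h1 | h1
  · subst h1
    refine ⟨m, ?_⟩
    obtain ⟨W, hW, s, rfl⟩ := TopCat.Presheaf.exists_germ_eq M.presheaf m
    rw [toGen_germ]
  · exact h x hxx h1
  haveI := htf x
  haveI := finite_stalk hM x
  obtain ⟨a, ha, v, hv⟩ := exists_smul_mem_range hM.1 x m
  have haK : algebraMap (X.presheaf.stalk x) X.functionField a ≠ 0 :=
    (map_ne_zero_iff _ (IsFractionRing.injective _ _)).2 ha
  by_cases hdiv : ∃ w, v = a • w
  · obtain ⟨w, rfl⟩ := hdiv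
    exact ⟨w, smul_right_injective _ haK ((toGen_smul a w).symm.trans hv)⟩
  exfalso
  have hau : a ∈ maximalIdeal (X.presheaf.stalk x) := fun hu => hdiv
    ⟨((hu.unit⁻¹ : (X.presheaf.stalk x)ˣ) : X.presheaf.stalk x) • v, by rw [← mul_smul, IsUnit.mul_val_inv, one_smul]⟩
  have hreg : IsSMulRegular (M.presheaf.stalk x) a := fun b c hbc => smul_right_injective _ ha hbc
  have hass := (Alg6.two_le_depth_iff hau hreg).1 (two_le_depth_ref hX h1 hM hr)
  have hz : (Submodule.Quotient.mk v : QuotSMulTop a (M.presheaf.stalk x)) ≠ 0 := fun h0 => by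
    obtain ⟨w, hw⟩ := Alg6.mem_pointwise_smul_top_iff.1 h0
    exact hdiv ⟨w, hw.symm⟩
  obtain ⟨Q, hQ, hQann⟩ := Alg6.exists_ass_ge (R := X.presheaf.stalk x) hz
  have hQp : Q.IsPrime := hQ.isPrime
  have hQm : Q ≠ maximalIdeal (X.presheaf.stalk x) := fun hh => hass (hh ▸ hQ)
  letI := QCoh.stalkAlg (X := X) hx
  haveI := QCoh.isLocalization_stalk' hV hx
  let q := Q.comap (algebraMap Γ(X, V) (X.presheaf.stalk x))
  obtain ⟨y, hy, hyq⟩ := QCoh.exists_point hV ⟨q, Ideal.comap_isPrime _ _⟩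
  have hq : (hV.primeIdealOf ⟨y, hy⟩).asIdeal = q := congrArg PrimeSpectrum.asIdeal hyq
  have hle : q ≤ (hV.primeIdealOf ⟨x, hx⟩).asIdeal := by
    rw [← IsLocalization.AtPrime.under_maximalIdeal (X.presheaf.stalk x) (hV.primeIdealOf ⟨x, hx⟩).asIdeal]
    exact Ideal.comap_mono (le_maximalIdeal hQp.ne_top)
  have hlt : hV.primeIdealOf ⟨y, hy⟩ < P := by
    rw [← hP, hyq]
    refine lt_of_le_of_ne hle fun heq => hQm ?_
    have h3 : q = (hV.primeIdealOf ⟨x, hx⟩).asIdeal := congrArg PrimeSpectrum.asIdeal heq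
    rw [← IsLocalization.map_under (hV.primeIdealOf ⟨x, hx⟩).asIdeal.primeCompl (X.presheaf.stalk x) Q,
      ← IsLocalization.AtPrime.map_eq_maximalIdeal (hV.primeIdealOf ⟨x, hx⟩).asIdeal (X.presheaf.stalk x), ← h3]
  have hyx : y ⤳ x := (AssPtX.primeIdealOf_le_iff hV hy hx).1 (hq ▸ hle)
  obtain ⟨w, hw⟩ := ih _ hlt y hy rfl (hyx.trans hxx)
  -- clear the denominator of `w`
  letI := QCoh.stalkAlg (X := X) hy
  letI := QCoh.stalkModule M hy
  haveI := QCoh.isScalarTower_stalk M hy
  haveI := QCoh.isLocalizedModule_germLin hM.1 hV hy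
  obtain ⟨⟨n, t⟩, hnt⟩ := IsLocalizedModule.surj (hV.primeIdealOf ⟨y, hy⟩).asIdeal.primeCompl
    (QCoh.germLin M hy) w
  dsimp only at hnt
  have hgen : ∀ (z : X) (hz : z ∈ V) (r : Γ(X, V)),
      algebraMap (X.presheaf.stalk z) X.functionField (X.presheaf.germ V z hz r) =
        X.presheaf.germ V (genericPoint X) (generic_mem hz) r := fun z hz r =>
    TopCat.Presheaf.germ_stalkSpecializes_apply X.presheaf hz (spec z) r
  have hnt' : X.presheaf.germ V y hy t.1 • w = M.presheaf.germ V y hy n :=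
    (algebraMap_smul (X.presheaf.stalk y) t.1 w).trans hnt
  have h2 := congrArg (toGen M y) hnt'
  rw [toGen_smul, hgen, hw, toGen_germ] at h2
  have h3 : X.presheaf.germ V x hx t.1 • v = a • M.presheaf.germ V x hx n := by
    refine toGen_injective hM.1 x ?_
    rw [toGen_smul, toGen_smul, hv, hgen, toGen_germ, ← h2, smul_comm]
  refine t.2 (show t.1 ∈ (hV.primeIdealOf ⟨y, hy⟩).asIdeal from hq.ge ?_)
  show X.presheaf.germ V x hx t.1 ∈ Q
  refine hQann _ ?_
  rw [← Submodule.Quotient.mk_smul, h3]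
  exact Alg6.mem_pointwise_smul_top_iff.2 ⟨_, rfl⟩

include hX in
/-- Sections over an open set from the codimension one stalks. -/
theorem exists_section_on (hM : Coh.IsCoh M) (hr : RefHull.IsReflexive M)
    (m : M.presheaf.stalk (genericPoint X)) {W : X.Opens} (hW : genericPoint X ∈ W)
    (h : ∀ y ∈ W, Order.coheight y = 1 → m ∈ Set.range (toGen M y)) :
    ∃ s : Γ(M, W), M.presheaf.germ W (genericPoint X) hW s = m := by
  have htf := isTorsionFree_of_reflexive hM hr
  have hloc : ∀ x : W, ∃ (V : X.Opens) (hV : x.1 ∈ V) (_ : V ≤ W) (s : Γ(M, V)),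
      M.presheaf.germ V (genericPoint X) (generic_mem hV) s = m := by
    rintro ⟨x, hx⟩
    obtain ⟨v, hv⟩ := mem_range_of_codim_one hX hM hr m fun y hy hy1 => h y (hy.mem_open W.2 hx) hy1
    obtain ⟨V, hV, s, rfl⟩ := TopCat.Presheaf.exists_germ_eq M.presheaf v
    refine ⟨V ⊓ W, ⟨hV, hx⟩, inf_le_right, AModX.res M inf_le_left s, ?_⟩
    rw [RefX.germ_res, ← toGen_germ hV, hv]
  choose V hV hVW s hs using hloc
  obtain ⟨t, ht, -⟩ := AModX.existsUnique_glue (M := M) (V := W) V hVW
    (fun p hp => ⟨⟨p, hp⟩, hV ⟨p, hp⟩⟩) s fun a b => by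
      refine sect_ext hM.1 htf (show genericPoint X ∈ V a ⊓ V b from ⟨generic_mem (hV a), generic_mem (hV b)⟩) ?_
      rw [RefX.germ_res, RefX.germ_res, hs, hs]
  exact ⟨t, by rw [← hs ⟨_, hW⟩, ← ht ⟨_, hW⟩, RefX.germ_res]⟩

end Groth.Agent.Div86.Ref
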