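import Groth.Agent.Div86.Ref.Extend
import Groth.Agent.Div86.SecFrame

/-!
# Orders of generic elements of rank one reflexive modules
-/

set_option autoImplicit false
set_option linter.style.haveILetI false
set_option backward.isDefEq.respectTransparency false
set_option backward.isDefEq.respectTransparency.types false

universe u

open CategoryTheory AlgebraicGeometry TopologicalSpace Groth.Agent.H23 IsLocalRing

namespace Groth.Agent.Div86.Ref

variable {X : Scheme.{u}} [IsIntegral X] [IsLocallyNoetherian X] {F G : X.Modules}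

/-- The order of an element of the generic stalk. -/
noncomputable def sord (F : X.Modules) (x : X) (m : F.presheaf.stalk (genericPoint X)) : ℤ :=
  Cyc.secOrdAt F (genericPoint X) x (spec x) (RatSec.cls F (genericPoint X) m)

omit [IsLocallyNoetherian X] in
lemma cls_ne_zero_iff {g : F.presheaf.stalk (genericPoint X)} (hg : RatSec.IsGen g)
    (m : F.presheaf.stalk (genericPoint X)) : RatSec.cls F (genericPoint X) m ≠ 0 ↔ m ≠ 0 := by
  refine ⟨fun h hm => h (by rw [hm]; rfl), fun hm => ?_⟩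
  obtain ⟨c, rfl⟩ := exists_coord_gen hg m
  have hc : c ≠ 0 := fun h => hm (by rw [h]; exact zero_smul _ _)
  exact (RatSec.residue_ne_zero hg (φ := c)).1 (resG_ne_zero hc)

/-- The order from a coordinate in a generator of the stalk. -/
lemma sord_gen {x : X} (hx : Order.coheight x = 1) {t : F.presheaf.stalk x} (ht : RatSec.IsGen t)
    (htg : RatSec.IsGen (toGen F x t)) {φ : X.functionField} (hφ : φ ≠ 0) :
    sord F x (φ • toGen F x t) = Scheme.ord φ x := by
  classical
  have ht' : ∃ t : F.presheaf.stalk x, Submodule.span (X.presheaf.stalk x) {t} = ⊤ := ⟨t, ht.1⟩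
  rw [sord, Cyc.secOrdAt, dif_pos ht']
  obtain ⟨u, hu, hut⟩ := ht.of_span (Classical.choose_spec ht')
  obtain ⟨w, hw⟩ := hu
  set ψ : X.functionField := φ * algebraMap (X.presheaf.stalk x) X.functionField (w⁻¹ : (X.presheaf.stalk x)ˣ)
  have hgen' : RatSec.IsGen (toGen F x (Classical.choose ht')) := by
    rw [hut, toGen_smul]
    exact htg.smul_unit ((hw ▸ w.isUnit).map _)
  have hs : RatSec.cls F (genericPoint X) (φ • toGen F x t) =
      ψ • RatSec.cls F (genericPoint X) (toGen F x (Classical.choose ht')) := by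
    rw [← RatSec.cls_smul, hut, toGen_smul, smul_smul, mul_assoc, ← map_mul, ← hw, Units.inv_mul, map_one, mul_one]
  have hψ : ∃ ψ : X.presheaf.stalk (genericPoint X), RatSec.cls F (genericPoint X) (φ • toGen F x t) =
      ψ • (Submodule.Quotient.mk ((F.presheaf.stalkSpecializes (spec x)) (Classical.choose ht')) :
        Cyc.secFibre F (genericPoint X)) := ⟨ψ, hs⟩
  rw [dif_pos hψ]
  have h2 := resG_injective ((RatSec.cls_smul_eq_iff hgen' _ _).1 ((Classical.choose_spec hψ).symm.trans hs))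
  have hw0 : algebraMap (X.presheaf.stalk x) X.functionField (w⁻¹ : (X.presheaf.stalk x)ˣ) ≠ 0 :=
    ((w⁻¹).isUnit.map _).ne_zero
  refine Eq.trans (ordAt_generic (spec x) hx (f := Classical.choose hψ) ?_) ?_
  · rw [h2]; exact mul_ne_zero hφ hw0
  · rw [h2, Scheme.ord_mul hφ hw0, ord_unit (w⁻¹).isUnit, add_zero]

variable (hX : Pi1.IsNormalScheme X)

include hX in
lemma exists_gen (hF : RefHull.IsRef1 F) {x : X} (hx : Order.coheight x = 1) :
    ∃ t : F.presheaf.stalk x, RatSec.IsGen t ∧ RatSec.IsGen (toGen F x t) :=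
  exists_isGen hX hx hF.1 (isTorsionFree_of_reflexive hF.1 hF.2.1) hF.2.2

include hX in
lemma exists_coord {x : X} (hF : RefHull.IsRef1 F) (hx : Order.coheight x = 1)
    {m : F.presheaf.stalk (genericPoint X)} (hm : m ≠ 0) :
    ∃ (t : F.presheaf.stalk x) (φ : X.functionField), RatSec.IsGen t ∧ RatSec.IsGen (toGen F x t) ∧
      φ ≠ 0 ∧ m = φ • toGen F x t := by
  obtain ⟨t, ht, htg⟩ := exists_gen hX hF hx
  obtain ⟨φ, rfl⟩ := exists_coord_gen htg m
  exact ⟨t, φ, ht, htg, fun h => hm (by rw [h]; exact zero_smul _ _), rfl⟩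

include hX in
lemma sord_smul (hF : RefHull.IsRef1 F) {x : X} (hx : Order.coheight x = 1) {c : X.functionField} (hc : c ≠ 0)
    {m : F.presheaf.stalk (genericPoint X)} (hm : m ≠ 0) :
    sord F x (c • m) = Scheme.ord c x + sord F x m := by
  obtain ⟨t, φ, ht, htg, hφ, rfl⟩ := exists_coord hX hF hx hm
  rw [smul_smul, sord_gen hx ht htg (mul_ne_zero hc hφ), sord_gen hx ht htg hφ, Scheme.ord_mul hc hφ]

include hX in
lemma mem_range_iff (hF : RefHull.IsRef1 F) {x : X} (hx : Order.coheight x = 1)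
    {m : F.presheaf.stalk (genericPoint X)} (hm : m ≠ 0) :
    m ∈ Set.range (toGen F x) ↔ 0 ≤ sord F x m := by
  obtain ⟨t, φ, ht, htg, hφ, rfl⟩ := exists_coord hX hF hx hm
  rw [sord_gen hx ht htg hφ]
  constructor
  · rintro ⟨v, hv⟩
    obtain ⟨a, rfl⟩ := Submodule.mem_span_singleton.1 (ht.1.ge (Submodule.mem_top : v ∈ ⊤))
    rw [toGen_smul] at hv
    have h1 : algebraMap (X.presheaf.stalk x) X.functionField a = φ :=
      sub_eq_zero.1 (htg.2 _ (by rw [sub_smul, hv, sub_self]))
    exact CDiv6.reg_ord_nonneg hφ ⟨a, h1⟩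
  · intro h
    obtain ⟨a, ha⟩ := CDiv6.reg_of_ord_nonneg hX hx hφ h
    exact ⟨a • t, by rw [toGen_smul, ha]⟩

include hX in
lemma mapsTo_of_sord (hF : RefHull.IsRef1 F) (hG : RefHull.IsRef1 G) {x : X} (hx : Order.coheight x = 1)
    (T : RefHull.StalkHom F G (genericPoint X)) {m : F.presheaf.stalk (genericPoint X)} (hm : m ≠ 0)
    {n : G.presheaf.stalk (genericPoint X)} (hn : n ≠ 0) (hT : T m = n) (h : sord F x m ≤ sord G x n) :
    Set.MapsTo T (Set.range (toGen F x)) (Set.range (toGen G x)) := by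
  rintro _ ⟨v, rfl⟩
  rcases eq_or_ne (toGen F x v) 0 with h0 | h0
  · exact ⟨0, by rw [h0, map_zero, map_zero]⟩
  obtain ⟨g, hg⟩ := exists_isGen_generic hF.2.2
  obtain ⟨c, hc⟩ := exists_coord_gen (isGen_of_ne_zero hg hm) (toGen F x v)
  have hc0 : c ≠ 0 := fun hh => h0 (by rw [← hc, hh]; exact zero_smul _ _)
  have h1 := (mem_range_iff hX hF hx h0).1 ⟨v, rfl⟩
  rw [← hc, sord_smul hX hF hx hc0 hm] at h1
  obtain ⟨g', hg'⟩ := exists_isGen_generic hG.2.2
  rw [← hc, map_smul, hT]
  refine (mem_range_iff hX hG hx (fun hh => hc0 ((isGen_of_ne_zero hg' hn).2 c hh))).2 ?_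
  rw [sord_smul hX hG hx hc0 hn]
  linarith

include hX in
/-- Equality of divisors gives an isomorphism. -/
theorem nonempty_iso_of_sord (hF : RefHull.IsRef1 F) (hG : RefHull.IsRef1 G)
    {m : F.presheaf.stalk (genericPoint X)} (hm : m ≠ 0) {n : G.presheaf.stalk (genericPoint X)} (hn : n ≠ 0)
    (h : ∀ x : X, Order.coheight x = 1 → sord F x m = sord G x n) : Nonempty (F ≅ G) := by
  obtain ⟨g, hg⟩ := exists_isGen_generic hF.2.2
  obtain ⟨g', hg'⟩ := exists_isGen_generic hG.2.2
  have hm' := isGen_of_ne_zero hg hm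
  have hn' := isGen_of_ne_zero hg' hn
  let eF : X.functionField ≃ₗ[X.functionField] F.presheaf.stalk (genericPoint X) :=
    LinearEquiv.ofBijective (LinearMap.toSpanSingleton X.functionField _ m)
      ⟨fun a b hab => sub_eq_zero.1 (hm'.2 _ (by rw [sub_smul]; exact sub_eq_zero.2 hab)),
        fun w => exists_coord_gen hm' w⟩
  let eG : X.functionField ≃ₗ[X.functionField] G.presheaf.stalk (genericPoint X) :=
    LinearEquiv.ofBijective (LinearMap.toSpanSingleton X.functionField _ n)
      ⟨fun a b hab => sub_eq_zero.1 (hn'.2 _ (by rw [sub_smul]; exact sub_eq_zero.2 hab)),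
        fun w => exists_coord_gen hn' w⟩
  have e1 : eF 1 = m := one_smul X.functionField m
  have e2 : eG 1 = n := one_smul X.functionField n
  refine nonempty_iso hX hF.1 hF.2.1 hG.1 hG.2.1 (eG.symm.trans eF).toLinearMap (eF.symm.trans eG).toLinearMap
    (fun w => by simp) (fun w => by simp) (fun x hx => mapsTo_of_sord hX hG hF hx _ hn hm ?_ (h x hx).ge)
    fun x hx => mapsTo_of_sord hX hF hG hx _ hm hn ?_ (h x hx).le
  · show eF (eG.symm n) = m
    rw [← e2, eG.symm_apply_apply, e1]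
  · show eG (eF.symm m) = n
    rw [← e1, eF.symm_apply_apply, e2]

include hX in
lemma sord_iso (hF : RefHull.IsRef1 F) (e : F ≅ G) {x : X} (hx : Order.coheight x = 1)
    {m : F.presheaf.stalk (genericPoint X)} (hm : m ≠ 0) :
    sord G x (RefHull.stalkMapₗ e.hom (genericPoint X) m) = sord F x m := by
  have hl : ∀ (y : X) (v : F.presheaf.stalk y), RefHull.stalkMapₗ e.inv y (RefHull.stalkMapₗ e.hom y v) = v := by
    intro y v
    obtain ⟨U, hU, q, rfl⟩ := TopCat.Presheaf.exists_germ_eq F.presheaf v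
    rw [RefHull.stalkMapₗ_germ, RefHull.stalkMapₗ_germ]
    exact congrArg (F.presheaf.germ U y hU).hom (congrArg (fun p : F ⟶ F => p.app U q) e.hom_inv_id)
  have hr : ∀ (y : X) (v : G.presheaf.stalk y), RefHull.stalkMapₗ e.hom y (RefHull.stalkMapₗ e.inv y v) = v := by
    intro y v
    obtain ⟨U, hU, q, rfl⟩ := TopCat.Presheaf.exists_germ_eq G.presheaf v
    rw [RefHull.stalkMapₗ_germ, RefHull.stalkMapₗ_germ]
    exact congrArg (G.presheaf.germ U y hU).hom (congrArg (fun p : G ⟶ G => p.app U q) e.inv_hom_id)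
  have hgen : ∀ (y : X) (v : F.presheaf.stalk y), RatSec.IsGen v → RatSec.IsGen (RefHull.stalkMapₗ e.hom y v) := by
    intro y v hv
    refine ⟨eq_top_iff.2 fun w _ => ?_, fun a ha => hv.2 a ?_⟩
    · obtain ⟨a, ha⟩ := Submodule.mem_span_singleton.1 (hv.1.ge (Submodule.mem_top : RefHull.stalkMapₗ e.inv y w ∈ ⊤))
      exact Submodule.mem_span_singleton.2 ⟨a, by rw [← map_smul, ha, hr]⟩
    · rw [← map_smul] at ha
      rw [← hl y (a • v), ha, map_zero]
  obtain ⟨t, φ, ht, htg, hφ, rfl⟩ := exists_coord hX hF hx hm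
  rw [sord_gen hx ht htg hφ, map_smul, toGen_natural,
    sord_gen hx (hgen x t ht) (by rw [← toGen_natural]; exact hgen _ _ htg) hφ]

end Groth.Agent.Div86.Ref
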