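import Groth.Agent.Div86.Ref.Local
import Groth.Agent.Div86.Ref.Divisor
import Groth.Agent.Div86.Ref.Push
import Groth.Prelude.Def_RefPow

/-!
# Powers of a section of a rank one reflexive module
-/

set_option autoImplicit false
set_option linter.style.haveILetI false
set_option backward.isDefEq.respectTransparency false
set_option backward.isDefEq.respectTransparency.types false

universe u

open CategoryTheory CategoryTheory.Limits AlgebraicGeometry TopologicalSpace Opposite Groth.Agent.H23 Groth.Agent.InvX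

namespace Groth.Agent.Div86.Ref

variable {X : Scheme.{u}}

section General

variable {A B C : X.Modules}

lemma stalkMapₗ_comp (φ : A ⟶ B) (ψ : B ⟶ C) (x : X) (v : A.presheaf.stalk x) :
    RefHull.stalkMapₗ (φ ≫ ψ) x v = RefHull.stalkMapₗ ψ x (RefHull.stalkMapₗ φ x v) := by
  obtain ⟨U, hx, m, rfl⟩ := TopCat.Presheaf.exists_germ_eq A.presheaf v
  rw [RefHull.stalkMapₗ_germ, RefHull.stalkMapₗ_germ, RefHull.stalkMapₗ_germ]
  rfl

lemma stalkMapₗ_bijective_of_iso (φ : A ⟶ B) [IsIso φ] (x : X) :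
    Function.Bijective (RefHull.stalkMapₗ φ x) := by
  haveI : IsIso φ.mapPresheaf := inferInstanceAs (IsIso ((Scheme.Modules.toPresheaf X).map φ))
  exact (ConcreteCategory.isIso_iff_bijective ((TopCat.Presheaf.stalkFunctor Ab x).map φ.mapPresheaf)).1 inferInstance

variable {L : X.Modules}

lemma res_val' (s : Coh.structureModule X ⟶ L) {U V : X.Opens} (h : V ≤ U) :
    AModX.res L h (SecTwist.val s U) = SecTwist.val s V :=
  SecTwist.map_val s (homOfLE h)

lemma germ_val (s : Coh.structureModule X ⟶ L) {U : X.Opens} {x : X} (hx : x ∈ U) :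
    L.presheaf.germ U x hx (SecTwist.val s U) = L.presheaf.germ ⊤ x trivial (SecTwist.val s ⊤) := by
  rw [← res_val' s (le_top : U ≤ ⊤), RefX.germ_res]

lemma stalkMapₗ_unit (s : Coh.structureModule X ⟶ L) (x : X) (a : X.presheaf.stalk x) :
    RefHull.stalkMapₗ s x (RefX.unitStalk x a) = a • L.presheaf.germ ⊤ x trivial (SecTwist.val s ⊤) := by
  show RefHull.stalkMapₗ s x (a • _) = _
  rw [map_smul, RefHull.stalkMapₗ_germ]
  rfl

lemma bijective_stalkMap_iff (s : Coh.structureModule X ⟶ L) (x : X) :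
    Function.Bijective (RefHull.stalkMapₗ s x) ↔
      Function.Bijective fun a : X.presheaf.stalk x => a • L.presheaf.germ ⊤ x trivial (SecTwist.val s ⊤) := by
  have h : (fun a : X.presheaf.stalk x => a • L.presheaf.germ ⊤ x trivial (SecTwist.val s ⊤)) =
      ⇑(RefHull.stalkMapₗ s x) ∘ ⇑(RefX.unitStalk x) := funext fun a => (stalkMapₗ_unit s x a).symm
  rw [h, Function.Bijective.of_comp_iff _ (RefX.unitStalk x).bijective]

end General

variable {F : X.Modules} (s : Coh.structureModule X ⟶ F) {U : X.Opens}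

lemma tmul_eq {M N : X.Modules} {V : X.Opens} (a : Γ(M, V)) (b : Γ(N, V)) :
    SecTwist.tmul M N V a b = tmul a b := rfl

lemma val_sPow_one (V : X.Opens) : SecTwist.val (RefPow.sPow s 1) V = SecTwist.val s V :=
  congrArg (fun φ => SecTwist.val φ V) (RefPow.sPow_one s)

lemma val_sPow_succ (n : ℕ) (V : X.Opens) :
    SecTwist.val (RefPow.sPow s (n + 2)) V =
      (RefHull.bidualMap (CohB1.tensorMod (RefPow.refPow F (n + 1)) F)).app V
        (tmul (SecTwist.val (RefPow.sPow s (n + 1)) V) (SecTwist.val s V)) := by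
  show (RefPow.mulBy s (n + 1)).app V (SecTwist.val (RefPow.sPow s (n + 1)) V) = _
  rw [RefPow.mulBy_succ_app, tmul_eq]

lemma isFrame_val (hU : (U : Set X) = RefPow.isoLocus s) : IsFrame (SecTwist.val s U) :=
  isFrame_of_germ fun x hx => by
    rw [germ_val]
    exact (bijective_stalkMap_iff s x).1 (hU.subset hx)

variable [IsIntegral X] [IsLocallyNoetherian X]

lemma isRef1_refPow (hF : RefHull.IsRef1 F) : ∀ n, RefHull.IsRef1 (RefPow.refPow F n)
  | 0 => ⟨RefX.isCoh_unit, isReflexive_unit, genInvertible_of_frame (U := ⊤) trivial (isFrame_one ⊤)⟩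
  | 1 => hF
  | n + 2 => isRef1_ddual_tensor (isRef1_refPow hF (n + 1)) hF

omit [IsIntegral X] in
lemma isFrame_val_sPow (hF : ∀ n, Coh.IsCoh (RefPow.refPow F n)) (hU : (U : Set X) = RefPow.isoLocus s) :
    ∀ n, IsFrame (SecTwist.val (RefPow.sPow s n) U)
  | 0 => isFrame_one U
  | 1 => by rw [val_sPow_one]; exact isFrame_val s hU
  | n + 2 => by
    rw [val_sPow_succ]
    exact isFrame_bidual (isCoh_tensor (hF (n + 1)) (hF 1))
      (isFrame_tmul (isFrame_val_sPow hF hU (n + 1)) (isFrame_val s hU))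

/-- The generic germ of a power. -/
noncomputable def pw (n : ℕ) : (RefPow.refPow F n).presheaf.stalk (genericPoint X) :=
  (RefPow.refPow F n).presheaf.germ ⊤ (genericPoint X) trivial (SecTwist.val (RefPow.sPow s n) ⊤)

omit [IsLocallyNoetherian X] in
lemma toGen_sPowGerm (n : ℕ) (x : X) : toGen (RefPow.refPow F n) x (RefPow.sPowGerm s n x) = pw s n :=
  toGen_germ (U := (⊤ : X.Opens)) trivial _

variable (hX : Pi1.IsNormalScheme X)

include hX in
/-- Orders of the tensor of two sections. -/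
theorem sord_tmul {G H : X.Modules} (hG : RefHull.IsRef1 G) (hH : RefHull.IsRef1 H) {V : X.Opens}
    (hV : genericPoint X ∈ V) (a : Γ(G, V)) (b : Γ(H, V))
    (ha : G.presheaf.germ V _ hV a ≠ 0) (hb : H.presheaf.germ V _ hV b ≠ 0) :
    (RefHull.ddual (CohB1.tensorMod G H)).presheaf.germ V _ hV
        ((RefHull.bidualMap (CohB1.tensorMod G H)).app V (tmul a b)) ≠ 0 ∧
    ∀ x : X, Order.coheight x = 1 →
      sord (RefHull.ddual (CohB1.tensorMod G H)) x ((RefHull.ddual (CohB1.tensorMod G H)).presheaf.germ V _ hV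
          ((RefHull.bidualMap (CohB1.tensorMod G H)).app V (tmul a b))) =
        sord G x (G.presheaf.germ V _ hV a) + sord H x (H.presheaf.germ V _ hV b) := by
  have hFG := isCoh_tensor hG.1 hH.1
  -- coordinates in a pair of frames around any point admitting them
  have key : ∀ (W : X.Opens) (hW : genericPoint X ∈ W) (e : Γ(G, W)) (f : Γ(H, W)), IsFrame e → IsFrame f →
      ∃ p q : X.functionField, p ≠ 0 ∧ q ≠ 0 ∧
        G.presheaf.germ V _ hV a = p • G.presheaf.germ W _ hW e ∧
        H.presheaf.germ V _ hV b = q • H.presheaf.germ W _ hW f ∧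
        (RefHull.ddual (CohB1.tensorMod G H)).presheaf.germ V _ hV
          ((RefHull.bidualMap (CohB1.tensorMod G H)).app V (tmul a b)) =
        (p * q) • (RefHull.ddual (CohB1.tensorMod G H)).presheaf.germ W _ hW
          ((RefHull.bidualMap (CohB1.tensorMod G H)).app W (tmul e f)) := by
    intro W hW e f he hf
    have hη : genericPoint X ∈ V ⊓ W := ⟨hV, hW⟩
    obtain ⟨p, hp⟩ := he.exists_coord (inf_le_right : V ⊓ W ≤ W) (AModX.res G (inf_le_left : V ⊓ W ≤ V) a)
    obtain ⟨q, hq⟩ := hf.exists_coord (inf_le_right : V ⊓ W ≤ W) (AModX.res H (inf_le_left : V ⊓ W ≤ V) b)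
    have hrel : ∀ {M : X.Modules} (A : Γ(M, V)) (B : Γ(M, W)) (c : Γ(X, V ⊓ W)),
        AModX.res M (inf_le_left : V ⊓ W ≤ V) A = c • AModX.res M (inf_le_right : V ⊓ W ≤ W) B →
        M.presheaf.germ V _ hV A = (X.presheaf.germ (V ⊓ W) (genericPoint X) hη c : X.functionField) •
          M.presheaf.germ W _ hW B := fun A B c h => by
      rw [← germ_res' (inf_le_left : V ⊓ W ≤ V) hη A, h, QCoh.germ_smul', germ_res']
    have h1 := hrel a e p hp
    have h2 := hrel b f q hq
    have h3 := hrel ((RefHull.bidualMap (CohB1.tensorMod G H)).app V (tmul a b))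
      ((RefHull.bidualMap (CohB1.tensorMod G H)).app W (tmul e f)) (p * q) (by
        rw [← AModX.app_res, ← AModX.app_res, ← Scheme.Modules.Hom.app_smul, res_tmul, res_tmul, hp, hq,
          tmul_smul_left, tmul_smul_right, smul_smul])
    rw [map_mul] at h3
    exact ⟨_, _, fun h0 => ha (by rw [h1, h0]; exact zero_smul _ _),
      fun h0 => hb (by rw [h2, h0]; exact zero_smul _ _), h1, h2, h3⟩
  constructor
  · obtain ⟨U₁, hU₁, e, he⟩ := exists_frame_generic hG.2.2
    obtain ⟨U₂, hU₂, f, hf⟩ := exists_frame_generic hH.2.2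
    obtain ⟨p, q, hp, hq, -, -, h3⟩ := key (U₁ ⊓ U₂) ⟨hU₁, hU₂⟩ _ _ (he.res inf_le_left) (hf.res inf_le_right)
    rw [h3]
    exact fun h => mul_ne_zero hp hq
      ((RatSec.isGen_germ (isFrame_bidual hFG (isFrame_tmul (he.res inf_le_left) (hf.res inf_le_right))) _
        (show genericPoint X ∈ U₁ ⊓ U₂ from ⟨hU₁, hU₂⟩)).2 _ h)
  · intro x hx
    obtain ⟨U₁, hU₁, e, he⟩ := exists_frame_codim_one hX hG hx
    obtain ⟨U₂, hU₂, f, hf⟩ := exists_frame_codim_one hX hH hx
    have hxW : x ∈ U₁ ⊓ U₂ := ⟨hU₁, hU₂⟩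
    obtain ⟨p, q, hp, hq, h1, h2, h3⟩ := key (U₁ ⊓ U₂) (generic_mem hxW) _ _ (he.res inf_le_left) (hf.res inf_le_right)
    rw [h1, h2, h3, sord_frame hx (isFrame_bidual hFG (isFrame_tmul (he.res inf_le_left) (hf.res inf_le_right))) hxW (mul_ne_zero hp hq),
      sord_frame hx (he.res (inf_le_left : U₁ ⊓ U₂ ≤ U₁)) hxW hp,
      sord_frame hx (hf.res (inf_le_right : U₁ ⊓ U₂ ≤ U₂)) hxW hq, Scheme.ord_mul hp hq]

include hX in
/-- Orders of powers. -/
theorem sord_pw (hF : RefHull.IsRef1 F) (hs : pw s 1 ≠ 0) :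
    ∀ n, pw s (n + 1) ≠ 0 ∧
      ∀ x : X, Order.coheight x = 1 → sord _ x (pw s (n + 1)) = (n + 1 : ℕ) * sord F x (pw s 1)
  | 0 => ⟨hs, fun x _ => by simp only [Nat.zero_add, Nat.cast_one, one_mul]; rfl⟩
  | n + 1 => by
    obtain ⟨hne, hord⟩ := sord_pw hF hs n
    have h1 : pw s 1 = F.presheaf.germ ⊤ (genericPoint X) trivial (SecTwist.val s ⊤) := by
      rw [pw, val_sPow_one]; rfl
    have h2 := sord_tmul hX (isRef1_refPow hF (n + 1)) hF (V := ⊤) trivial
      (SecTwist.val (RefPow.sPow s (n + 1)) ⊤) (SecTwist.val s ⊤) hne (h1 ▸ hs)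
    have h3 : pw s (n + 1 + 1) = (RefHull.ddual (CohB1.tensorMod (RefPow.refPow F (n + 1)) F)).presheaf.germ ⊤ _ trivial
        ((RefHull.bidualMap (CohB1.tensorMod (RefPow.refPow F (n + 1)) F)).app ⊤
          (tmul (SecTwist.val (RefPow.sPow s (n + 1)) ⊤) (SecTwist.val s ⊤))) := by
      rw [pw, val_sPow_succ]; rfl
    refine ⟨h3 ▸ h2.1, fun x hx => ?_⟩
    rw [h3]
    refine (h2.2 x hx).trans ?_
    rw [h1] at hord ⊢
    rw [show (RefPow.refPow F (n + 1)).presheaf.germ ⊤ (genericPoint X) trivial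
      (SecTwist.val (RefPow.sPow s (n + 1)) ⊤) = pw s (n + 1) from rfl, hord x hx]
    push_cast
    ring

include hX in
lemma one_le_sord (hF : RefHull.IsRef1 F) (hU : (U : Set X) = RefPow.isoLocus s) (hs : pw s 1 ≠ 0)
    {y : X} (hy : Order.coheight y = 1) (hyU : y ∉ U) : 1 ≤ sord F y (pw s 1) := by
  by_contra hlt
  have htf := isTorsionFree_of_reflexive hF.1 hF.2.1
  have hv : toGen F y (F.presheaf.germ ⊤ y trivial (SecTwist.val s ⊤)) = pw s 1 := by
    rw [toGen_germ, pw, val_sPow_one]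
    rfl
  have hge : 0 ≤ sord F y (pw s 1) := (mem_range_iff hX hF hy hs).1 ⟨_, hv⟩
  obtain ⟨t, φ, ht, htg, hφ, hm⟩ := exists_coord hX hF hy hs
  rw [hm, sord_gen hy ht htg hφ] at hlt hge
  obtain ⟨a, ha⟩ := CDiv6.reg_of_ord_nonneg hX hy hφ hge
  have ha0 : a ≠ 0 := fun h => hφ (by rw [← ha, h, map_zero])
  have hau : IsUnit a := isUnit_of_ord_eq_zero hX hy ha0 (by rw [ha]; omega)
  haveI := htf y
  have hgerm : F.presheaf.germ ⊤ y trivial (SecTwist.val s ⊤) = a • t :=
    toGen_injective hF.1.1 y (by rw [hv, hm, toGen_smul, ha])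
  refine hyU (show y ∈ (U : Set X) from hU.superset ((bijective_stalkMap_iff s y).2 ?_))
  rw [hgerm]
  have hg := ht.smul_unit hau
  exact ⟨fun b c hbc => sub_eq_zero.1 (hg.2 _ (by rw [sub_smul]; exact sub_eq_zero.2 hbc)),
    fun w => Submodule.mem_span_singleton.1 (hg.1.ge (Submodule.mem_top : w ∈ ⊤))⟩

omit [IsLocallyNoetherian X] in
lemma generic_mem_isoLocus (hF : RefHull.IsRef1 F) (hU : (U : Set X) = RefPow.isoLocus s) :
    genericPoint X ∈ U ↔ pw s 1 ≠ 0 := by
  rw [← SetLike.mem_coe, hU, RefPow.mem_isoLocus, bijective_stalkMap_iff]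
  have h1 : pw s 1 = F.presheaf.germ ⊤ (genericPoint X) trivial (SecTwist.val s ⊤) := by
    rw [pw, val_sPow_one]; rfl
  constructor
  · intro hb h0
    refine one_ne_zero (α := X.functionField) (hb.1 ?_)
    show (1 : X.functionField) • _ = (0 : X.functionField) • _
    rw [← h1, h0, smul_zero, smul_zero]
  · intro h0
    obtain ⟨g, hg⟩ := exists_isGen_generic hF.2.2
    have hgen := isGen_of_ne_zero hg (h1 ▸ h0)
    exact ⟨fun a b hab => sub_eq_zero.1 (hgen.2 _ (by rw [sub_smul]; exact sub_eq_zero.2 hab)),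
      fun w => exists_coord_gen hgen w⟩

/-- The section vanishes when its locus misses the generic point. -/
lemma val_eq_zero_of_notMem (hF : RefHull.IsRef1 F) (hU : (U : Set X) = RefPow.isoLocus s)
    (hη : genericPoint X ∉ U) (V : X.Opens) : SecTwist.val s V = 0 := by
  have h0 : pw s 1 = 0 := by_contra fun h => hη ((generic_mem_isoLocus s hF hU).2 h)
  rw [pw, val_sPow_one] at h0
  have htop : SecTwist.val s (⊤ : X.Opens) = 0 :=
    sect_ext hF.1.1 (isTorsionFree_of_reflexive hF.1 hF.2.1) (V := ⊤) trivial (h0.trans (map_zero _).symm)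
  rw [← res_val' s (le_top : V ≤ ⊤), htop, map_zero]

/-- The comparison map to the functions on the locus. -/
noncomputable def leg (hF : ∀ n, Coh.IsCoh (RefPow.refPow F n)) (hU : (U : Set X) = RefPow.isoLocus s) (n : ℕ) :
    RefPow.refPow F n ⟶ (Scheme.Modules.pushforward U.ι).obj ((Coh.structureModule X).restrict U.ι) :=
  haveI : IsIso ((Scheme.Modules.restrictFunctor U.ι).map (RefPow.sPow s n)) := by
    refine Scheme.Modules.Hom.isIso_iff_isIso_app.2 fun W => ?_
    rw [ConcreteCategory.isIso_iff_bijective]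
    exact TopCat.Presheaf.app_bijective_of_stalkFunctor_map_bijective
      (F := ⟨(Coh.structureModule X).presheaf, (Coh.structureModule X).isSheaf⟩)
      (G := ⟨(RefPow.refPow F n).presheaf, (RefPow.refPow F n).isSheaf⟩) ⟨(RefPow.sPow s n).mapPresheaf⟩
      (U.ι ''ᵁ W) fun y hy => (bijective_stalkMap_iff (RefPow.sPow s n) y).2 (by
        have hyU : y ∈ U := by
          obtain ⟨z, -, rfl⟩ := hy
          exact z.2
        rw [← germ_val (RefPow.sPow s n) hyU]
        exact (isFrame_val_sPow s hF hU n).germ_bijective hyU)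
  (Scheme.Modules.restrictAdjunction U.ι).unit.app (RefPow.refPow F n) ≫
    (Scheme.Modules.pushforward U.ι).map (inv ((Scheme.Modules.restrictFunctor U.ι).map (RefPow.sPow s n)))

omit [IsIntegral X] in
lemma sPow_leg (hF : ∀ n, Coh.IsCoh (RefPow.refPow F n)) (hU : (U : Set X) = RefPow.isoLocus s) (n : ℕ) :
    RefPow.sPow s n ≫ leg s hF hU n = (Scheme.Modules.restrictAdjunction U.ι).unit.app (Coh.structureModule X) := by
  have h := (Scheme.Modules.restrictAdjunction U.ι).unit.naturality (RefPow.sPow s n)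
  simp only [Functor.id_map, Functor.comp_map] at h
  rw [leg, ← Category.assoc, h, Category.assoc, ← Functor.map_comp, IsIso.hom_inv_id,
    CategoryTheory.Functor.map_id]
  exact Category.comp_id _

omit [IsIntegral X] in
lemma mulBy_leg (hF : ∀ n, Coh.IsCoh (RefPow.refPow F n)) (hU : (U : Set X) = RefPow.isoLocus s) (n : ℕ) :
    RefPow.mulBy s n ≫ leg s hF hU (n + 1) = leg s hF hU n := by
  have h := (Scheme.Modules.restrictAdjunction U.ι).unit.naturality (RefPow.mulBy s n)
  simp only [Functor.id_map, Functor.comp_map] at h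
  rw [leg, leg, ← Category.assoc, h, Category.assoc, ← Functor.map_comp]
  congr 2
  rw [IsIso.comp_inv_eq, IsIso.eq_inv_comp, ← Functor.map_comp]
  rfl

omit [IsIntegral X] in
lemma leg_zero (hF : ∀ n, Coh.IsCoh (RefPow.refPow F n)) (hU : (U : Set X) = RefPow.isoLocus s) :
    leg s hF hU 0 = (Scheme.Modules.restrictAdjunction U.ι).unit.app (Coh.structureModule X) := by
  rw [← sPow_leg s hF hU 0, RefPow.sPow_zero]
  exact (Category.id_comp _).symm

omit [IsIntegral X] [IsLocallyNoetherian X] in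
lemma bijective_unit_stalk (U : X.Opens) {y : X} (hy : y ∈ U) :
    Function.Bijective (RefHull.stalkMapₗ ((Scheme.Modules.restrictAdjunction U.ι).unit.app (Coh.structureModule X)) y) := by
  refine ⟨(injective_iff_map_eq_zero _).2 fun v hv => ?_, fun w => ?_⟩
  · obtain ⟨W, hW, m, rfl⟩ := TopCat.Presheaf.exists_germ_eq (Coh.structureModule X).presheaf v
    replace hv := (RefHull.stalkMapₗ_germ ((Scheme.Modules.restrictAdjunction U.ι).unit.app (Coh.structureModule X)) y hW m).symm.trans hv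
    obtain ⟨W', hW', i, j, h⟩ := TopCat.Presheaf.germ_eq (C := AddCommGrpCat.{u})
      ((Scheme.Modules.pushforward U.ι).obj ((Coh.structureModule X).restrict U.ι)).presheaf y hW hW _ 0
      (hv.trans (map_zero _).symm)
    rw [map_zero] at h
    have hle : U.ι ''ᵁ (U.ι ⁻¹ᵁ W') ≤ W := (U.ι.image_preimage_le W').trans i.le
    have hy' : y ∈ U.ι ''ᵁ (U.ι ⁻¹ᵁ W') := ⟨⟨y, hy⟩, hW', rfl⟩
    have h0 : (Coh.structureModule X).presheaf.map (homOfLE hle).op m = 0 := by
      refine Eq.trans ?_ h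
      exact (AModX.res_res (M := Coh.structureModule X) (U.ι.image_preimage_le W) (U.ι.image_mono
        (U.ι.preimage_mono i.le)) m).symm
    rw [← TopCat.Presheaf.germ_res_apply (Coh.structureModule X).presheaf (homOfLE hle) y hy' m, h0, map_zero]
  · obtain ⟨W, hW, q, rfl⟩ := TopCat.Presheaf.exists_germ_eq
      ((Scheme.Modules.pushforward U.ι).obj ((Coh.structureModule X).restrict U.ι)).presheaf w
    let W' : X.Opens := U.ι ''ᵁ (U.ι ⁻¹ᵁ W)
    have hyW' : y ∈ W' := ⟨⟨y, hy⟩, hW, rfl⟩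
    refine ⟨(Coh.structureModule X).presheaf.germ W' y hyW' q, ?_⟩
    refine (RefHull.stalkMapₗ_germ ((Scheme.Modules.restrictAdjunction U.ι).unit.app (Coh.structureModule X)) y hyW' q).trans ?_
    refine Eq.trans ?_ (TopCat.Presheaf.germ_res_apply
      ((Scheme.Modules.pushforward U.ι).obj ((Coh.structureModule X).restrict U.ι)).presheaf
      (homOfLE (U.ι.image_preimage_le W : W' ≤ W)) y hyW' q)
    rfl

include hX in
/-- A multiple of a large power lies in the stalk. -/
theorem exists_pw_mem (hF : RefHull.IsRef1 F) (hU : (U : Set X) = RefPow.isoLocus s)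
    (hη : genericPoint X ∈ U) (h : X.functionField) {x : X}
    (hreg : ∀ y : X, y ⤳ x → y ∈ U → CDiv6.Reg y h) :
    ∃ N : ℕ, ∀ n, N ≤ n → h • pw s (n + 1) ∈ Set.range (toGen (RefPow.refPow F (n + 1)) x) := by
  rcases eq_or_ne h 0 with rfl | hh
  · exact ⟨0, fun n _ => ⟨0, by rw [map_zero]; exact (zero_smul _ _).symm⟩⟩
  have hs := (generic_mem_isoLocus s hF hU).1 hη
  obtain ⟨N₀, hN₀, hfin⟩ := finite_codim_one_compl hX hη x
  obtain ⟨N, hN⟩ := ((hfin.image fun y => (- Scheme.ord h y).toNat)).bddAbove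
  refine ⟨N, fun n hn => mem_range_of_codim_one hX (isRef1_refPow hF (n + 1)).1 (isRef1_refPow hF (n + 1)).2.1 _
    fun y hy hy1 => ?_⟩
  have hne := (sord_pw s hX hF hs n).1
  obtain ⟨g, hg⟩ := exists_isGen_generic (isRef1_refPow hF (n + 1)).2.2
  refine (mem_range_iff hX (isRef1_refPow hF (n + 1)) hy1 (fun h0 => hh ((isGen_of_ne_zero hg hne).2 _ h0))).2 ?_
  rw [sord_smul hX (isRef1_refPow hF (n + 1)) hy1 hh hne, (sord_pw s hX hF hs n).2 y hy1]
  by_cases hyU : y ∈ U
  · have h1 := CDiv6.reg_ord_nonneg hh (hreg y hy hyU)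
    have h2 : 0 ≤ sord F y (pw s 1) := (mem_range_iff hX hF hy1 hs).1
      ⟨F.presheaf.germ ⊤ y trivial (SecTwist.val s ⊤), by rw [toGen_germ, pw, val_sPow_one]; rfl⟩
    positivity
  · have h2 := one_le_sord s hX hF hU hs hy1 hyU
    have hyN : y ∈ N₀ := (mem_of_mem_nhds (hy.nhds_le_nhds hN₀) : y ∈ N₀)
    have h3 : (- Scheme.ord h y).toNat ≤ N := hN ⟨y, ⟨hyN, hy1, hyU⟩, rfl⟩
    have h4 : - Scheme.ord h y ≤ (n : ℤ) := (Int.self_le_toNat _).trans (by exact_mod_cast h3.trans hn)
    have h5 : ((n + 1 : ℕ) : ℤ) * 1 ≤ ((n + 1 : ℕ) : ℤ) * sord F y (pw s 1) :=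
      mul_le_mul_of_nonneg_left h2 (Int.natCast_nonneg _)
    push_cast at h5 ⊢
    linarith

/-- The functions on `U` as a module on `X`. -/
noncomputable abbrev puncMod (U : X.Opens) : X.Modules :=
  (Scheme.Modules.pushforward U.ι).obj ((Coh.structureModule X).restrict U.ι)

omit [IsLocallyNoetherian X] in
lemma puncMod_injective (U : X.Opens) (x : X) : Function.Injective (toGen (puncMod U) x) := by
  refine (injective_iff_map_eq_zero _).2 fun w hw => ?_
  obtain ⟨W, hW, t, rfl⟩ := TopCat.Presheaf.exists_germ_eq (puncMod U).presheaf w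
  rw [toGen_germ] at hw
  have ht : t = 0 := by
    refine (extendsAcross_push ((Coh.structureModule X).restrict U.ι) W).1
      ((ZClosLib.section_ext (puncMod U) _ _ fun y hy => ?_).trans (map_zero _).symm)
    refine Eq.trans (RefX.germ_res _ inf_le_left hy t) (Eq.trans ?_ (map_zero _).symm)
    have hb := bijective_unit_stalk U hy.2
    obtain ⟨v, hv⟩ := hb.2 ((puncMod U).presheaf.germ W y hy.1 t)
    obtain ⟨a, rfl⟩ := (RefX.unitStalk y).surjective v
    have h1 := congrArg (toGen (puncMod U) y) hv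
    rw [toGen_germ, hw] at h1
    have h2 : algebraMap (X.presheaf.stalk y) X.functionField a = 0 := by
      refine (RefX.unitStalk (genericPoint X)).injective ((bijective_unit_stalk U (generic_mem hy.2)).1 ?_)
      rw [← toGen_unitStalk]
      refine (toGen_natural ((Scheme.Modules.restrictAdjunction U.ι).unit.app (Coh.structureModule X)) _).trans
        (h1.trans ?_)
      exact ((congrArg (RefHull.stalkMapₗ ((Scheme.Modules.restrictAdjunction U.ι).unit.app (Coh.structureModule X))
        (genericPoint X)) (map_zero _)).trans (map_zero _)).symm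
    have h3 : a = 0 := IsFractionRing.injective (X.presheaf.stalk y) X.functionField (h2.trans (map_zero _).symm)
    rw [← hv, h3, map_zero]
    exact map_zero _
  rw [ht, map_zero]

omit [IsLocallyNoetherian X] in
lemma subsingleton_puncMod (hη : genericPoint X ∉ U) (W : X.Opens) : Subsingleton Γ(puncMod U, W) := by
  refine ⟨fun a b => (extendsAcross_push ((Coh.structureModule X).restrict U.ι) W).1
    (AModX.eq_of_locally _ _ fun p hp => absurd (generic_mem hp.2) hη)⟩

lemma leg_pw (hF : ∀ n, Coh.IsCoh (RefPow.refPow F n)) (hU : (U : Set X) = RefPow.isoLocus s) (n : ℕ)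
    (h : X.functionField) :
    RefHull.stalkMapₗ (leg s hF hU n) (genericPoint X) (h • pw s n) =
      RefHull.stalkMapₗ ((Scheme.Modules.restrictAdjunction U.ι).unit.app (Coh.structureModule X)) (genericPoint X)
        (RefX.unitStalk (genericPoint X) h) := by
  have h1 : pw s n = RefHull.stalkMapₗ (RefPow.sPow s n) (genericPoint X)
      (RefX.unitStalk (genericPoint X) (1 : X.functionField)) := by
    rw [stalkMapₗ_unit]; exact (one_smul _ _).symm
  rw [h1, map_smul, ← stalkMapₗ_comp, sPow_leg]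
  refine (map_smul _ _ _).symm.trans (congrArg _ ?_)
  rw [← map_smul, smul_eq_mul, mul_one]

lemma leg_bijective_generic (hF : ∀ n, Coh.IsCoh (RefPow.refPow F n)) (hU : (U : Set X) = RefPow.isoLocus s)
    (hη : genericPoint X ∈ U) (n : ℕ) :
    Function.Bijective (RefHull.stalkMapₗ (leg s hF hU n) (genericPoint X)) := by
  have hb : Function.Bijective (RefHull.stalkMapₗ (RefPow.sPow s n) (genericPoint X)) := by
    rw [bijective_stalkMap_iff, ← germ_val (RefPow.sPow s n) hη]
    exact (isFrame_val_sPow s hF hU n).germ_bijective hη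
  have h := bijective_unit_stalk U hη
  rw [← sPow_leg s hF hU n] at h
  refine (Function.Bijective.of_comp_iff _ hb).1 ?_
  exact (congrArg Function.Bijective
    (funext fun v => stalkMapₗ_comp (RefPow.sPow s n) (leg s hF hU n) (genericPoint X) v)).mp h

include hX in
/-- Every function on the locus near a point is a fraction by a power. -/
theorem exists_leg_eq (hF : RefHull.IsRef1 F) (hU : (U : Set X) = RefPow.isoLocus s)
    (hη : genericPoint X ∈ U) {x : X} (w : (puncMod U).presheaf.stalk x) :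
    ∃ N, ∀ n, N ≤ n → ∃ v, RefHull.stalkMapₗ (leg s (fun n => (isRef1_refPow hF n).1) hU (n + 1)) x v = w := by
  let hC := fun n => (isRef1_refPow hF n).1
  let u := (Scheme.Modules.restrictAdjunction U.ι).unit.app (Coh.structureModule X)
  obtain ⟨W, hW, t, rfl⟩ := TopCat.Presheaf.exists_germ_eq (puncMod U).presheaf w
  obtain ⟨v₀, hv₀⟩ := (bijective_unit_stalk U hη).2 (toGen (puncMod U) x ((puncMod U).presheaf.germ W x hW t))
  obtain ⟨h, rfl⟩ := (RefX.unitStalk (genericPoint X)).surjective v₀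
  obtain ⟨N, hN⟩ := exists_pw_mem s hX hF hU hη h (x := x) fun y hy hyU => by
    obtain ⟨v, hv⟩ := (bijective_unit_stalk U hyU).2 ((puncMod U).presheaf.germ W y (hy.mem_open W.2 hW) t)
    obtain ⟨a, rfl⟩ := (RefX.unitStalk y).surjective v
    refine ⟨a, (RefX.unitStalk (genericPoint X)).injective ((bijective_unit_stalk U hη).1 ?_)⟩
    rw [← toGen_unitStalk]
    refine (toGen_natural u _).trans (Eq.trans ?_ hv₀.symm)
    exact (congrArg (toGen (puncMod U) y) hv).trans (by rw [toGen_germ, toGen_germ])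
  refine ⟨N, fun n hn => ?_⟩
  obtain ⟨v, hv⟩ := hN n hn
  refine ⟨v, puncMod_injective U x ?_⟩
  rw [← toGen_natural, hv, leg_pw s hC hU (n + 1) h]
  exact hv₀

/-- The cocone. -/
noncomputable def legs (hF : ∀ n, Coh.IsCoh (RefPow.refPow F n)) (hU : (U : Set X) = RefPow.isoLocus s) :
    RefPow.diagram F s ⟶ (Functor.const ℕ).obj (puncMod U) :=
  NatTrans.ofSequence (fun n => leg s hF hU n) fun n => by
    show (Functor.ofSequence (RefPow.mulBy s)).map _ ≫ leg s hF hU (n + 1) = leg s hF hU n ≫ 𝟙 _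
    rw [Functor.ofSequence_map_homOfLE_succ, mulBy_leg, Category.comp_id]

end Groth.Agent.Div86.Ref
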