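import Groth.Agent.Div86.Ref.Frame
import Groth.Agent.QCoh.TensorSections
import Groth.Agent.KFlatLib.Scheme.QCohTensor
import Groth.Agent.InvX.Tensor

/-!
# Frames in codimension one; reflexive tensor products
-/

set_option autoImplicit false
set_option linter.style.haveILetI false
set_option backward.isDefEq.respectTransparency false
set_option backward.isDefEq.respectTransparency.types false

universe u

open CategoryTheory AlgebraicGeometry TopologicalSpace Groth.Agent.H23 Groth.Agent.InvX IsLocalRing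

namespace Groth.Agent.Div86.Ref

variable {X : Scheme.{u}} {F G : X.Modules}

lemma isCoh_tensor [IsLocallyNoetherian X] (hF : Coh.IsCoh F) (hG : Coh.IsCoh G) :
    Coh.IsCoh (CohB1.tensorMod F G) := by
  refine QCoh.isCoh_iff.2 ⟨KFlatLib.isQCoh_tensor hF.1 hG.1, fun U => ?_⟩
  haveI := QCoh.finite_sections hF U.2
  haveI := QCoh.finite_sections hG U.2
  exact Module.Finite.of_surjective (QCoh.tmLin F G U.1) (QCoh.bijective_tmLin hF.1 hG.1 U.2).2

variable [IsIntegral X]

/-- A frame over a nonempty open makes a module generically invertible. -/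
lemma genInvertible_of_frame {U : X.Opens} (hU : genericPoint X ∈ U) {e : Γ(F, U)} (he : IsFrame e) :
    RefHull.GenInvertible F := by
  refine ⟨U, U.2.dense ⟨_, hU⟩, isInvertible_of_frames fun y => ?_⟩
  refine ⟨⊤, trivial, AModX.res F U.ι_image_top.le e, InvUfdLib.isFrame_restrict U.ι (he.res _)⟩

variable [IsLocallyNoetherian X]

omit [IsIntegral X] in
/-- The image of a frame in the reflexive hull is a frame. -/
lemma isFrame_bidual (hF : Coh.IsCoh F) {U : X.Opens} {e : Γ(F, U)} (he : IsFrame e) :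
    IsFrame ((RefHull.bidualMap F).app U e) := by
  refine isFrame_of_germ fun y hy => ?_
  have hb := he.germ_bijective hy
  have hr : RefHull.IsReflexiveAt F y := by
    show Module.IsReflexive (X.presheaf.stalk y) (F.presheaf.stalk y)
    exact Module.equiv (LinearEquiv.ofBijective (LinearMap.toSpanSingleton (X.presheaf.stalk y) _ _) hb)
  have h2 := ((RefX.stalkMap_bidual_bijective_iff hF y).2 hr).comp hb
  have h3 : (⇑(RefHull.stalkMapₗ (RefHull.bidualMap F) y) ∘ fun c : X.presheaf.stalk y => c • F.presheaf.germ U y hy e) =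
      fun c : X.presheaf.stalk y => c • (RefHull.ddual F).presheaf.germ U y hy ((RefHull.bidualMap F).app U e) := by
    funext c
    show RefHull.stalkMapₗ (RefHull.bidualMap F) y (c • _) = _
    rw [map_smul, RefHull.stalkMapₗ_germ]
  rwa [h3] at h2

lemma isRef1_ddual (hF : Coh.IsCoh F) {U : X.Opens} (hU : genericPoint X ∈ U) {e : Γ(F, U)}
    (he : IsFrame e) : RefHull.IsRef1 (RefHull.ddual F) :=
  ⟨isCoh_ddual hF, isReflexive_ddual hF, genInvertible_of_frame hU (isFrame_bidual hF he)⟩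

/-- The order from a coordinate in a frame. -/
lemma sord_frame {x : X} (hx : Order.coheight x = 1) {U : X.Opens} {e : Γ(F, U)} (he : IsFrame e)
    (hxU : x ∈ U) {φ : X.functionField} (hφ : φ ≠ 0) :
    sord F x (φ • F.presheaf.germ U (genericPoint X) (generic_mem hxU) e) = Scheme.ord φ x := by
  have h := sord_gen (F := F) hx (RatSec.isGen_germ he x hxU)
    (by rw [toGen_germ]; exact RatSec.isGen_germ he _ (generic_mem hxU)) hφ
  rwa [toGen_germ] at h

variable (hX : Pi1.IsNormalScheme X)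

omit [IsLocallyNoetherian X] in
/-- A generator of a stalk spreads out to a frame. -/
lemma exists_frame_of_isGen (hF : Coh.IsCoh F) (htf : TorSh.IsTorsionFree F) {x : X} {t : F.presheaf.stalk x}
    (ht : RatSec.IsGen t) (htg : RatSec.IsGen (toGen F x t)) :
    ∃ (U : X.Opens) (hx : x ∈ U) (e : Γ(F, U)), IsFrame e ∧ F.presheaf.germ U x hx e = t := by
  classical
  obtain ⟨V₀, hxV₀, s, rfl⟩ := TopCat.Presheaf.exists_germ_eq F.presheaf t
  obtain ⟨A, hA, hxA, hA₀⟩ := exists_isAffineOpen_mem_and_subset (x := x) (U := V₀) hxV₀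
  have hA₀' : A ≤ V₀ := hA₀
  obtain ⟨S, hS⟩ := (QCoh.finite_sections hF hA).fg_top
  have hloc : ∀ n : Γ(F, A), ∃ (W : X.Opens) (_ : x ∈ W) (hWA : W ≤ A) (r : Γ(X, W)),
      AModX.res F hWA n = r • AModX.res F (hWA.trans hA₀') s := by
    intro n
    obtain ⟨a, ha⟩ := Submodule.mem_span_singleton.1
      (ht.1.ge (Submodule.mem_top : F.presheaf.germ A x hxA n ∈ ⊤))
    obtain ⟨W₁, h₁, r, rfl⟩ := X.presheaf.exists_germ_eq (x := x) a
    have hxW : x ∈ W₁ ⊓ A := ⟨h₁, hxA⟩
    rw [← germ_resR' (inf_le_left : W₁ ⊓ A ≤ W₁) hxW r,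
      ← germ_res' ((inf_le_right : W₁ ⊓ A ≤ A).trans hA₀') hxW s, ← QCoh.germ_smul',
      ← germ_res' (inf_le_right : W₁ ⊓ A ≤ A) hxW n] at ha
    refine ⟨W₁ ⊓ A, hxW, inf_le_right, AModX.resR inf_le_left r, sect_ext hF.1 htf (generic_mem hxW) ?_⟩
    rw [← toGen_germ hxW, ← toGen_germ hxW, ha]
  choose W hxW hWA r hr using hloc
  let U : X.Opens := S.inf W ⊓ A
  have hxU : x ∈ U := ⟨Finset.inf_induction (p := fun V : X.Opens => x ∈ V) trivial
    (fun _ ha _ hb => ⟨ha, hb⟩) (fun n _ => hxW n), hxA⟩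
  have hU : U ≤ V₀ := (inf_le_right : U ≤ A).trans hA₀'
  refine ⟨U, hxU, AModX.res F hU s, isFrame_of_germ fun y hy => ?_, germ_res' hU hxU s⟩
  haveI := htf y
  have hne : F.presheaf.germ U y hy (AModX.res F hU s) ≠ 0 := by
    intro h0
    have h1 : toGen F y (F.presheaf.germ U y hy (AModX.res F hU s)) = toGen F x (F.presheaf.germ V₀ x hxV₀ s) := by
      rw [toGen_germ, toGen_germ, germ_res']
    rw [h0, map_zero] at h1
    exact one_ne_zero (α := X.functionField) (htg.2 1 (by rw [← h1, smul_zero]))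
  refine ⟨fun a b hab => sub_eq_zero.1 ((smul_eq_zero.1
    (show (a - b) • _ = (0 : F.presheaf.stalk y) by rw [sub_smul]; exact sub_eq_zero.2 hab)).resolve_right hne),
    fun w => ?_⟩
  have hyA : y ∈ A := (inf_le_right : U ≤ A) hy
  letI := QCoh.stalkAlg (X := X) hyA
  letI := QCoh.stalkModule F hyA
  haveI := QCoh.isScalarTower_stalk F hyA
  haveI := QCoh.isLocalization_stalk' hA hyA
  haveI := QCoh.isLocalizedModule_germLin hF.1 hA hyA
  let P := Submodule.span (X.presheaf.stalk y) {F.presheaf.germ U y hy (AModX.res F hU s)}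
  have hgen : ∀ n ∈ S, F.presheaf.germ A y hyA n ∈ P := fun n hn => by
    have hyW : y ∈ W n := (inf_le_left.trans (Finset.inf_le hn) : U ≤ W n) hy
    refine Submodule.mem_span_singleton.2 ⟨X.presheaf.germ (W n) y hyW (r n), ?_⟩
    rw [germ_res', ← germ_res' ((hWA n).trans hA₀') hyW s, ← QCoh.germ_smul', ← hr n, germ_res']
  have hall : ∀ n : Γ(F, A), F.presheaf.germ A y hyA n ∈ P := fun n => by
    have hn : n ∈ Submodule.span Γ(X, A) (S : Set Γ(F, A)) := by rw [hS]; trivial
    induction hn using Submodule.span_induction with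
    | mem n hn => exact hgen n hn
    | zero => rw [map_zero]; exact zero_mem _
    | add a b _ _ ha hb => rw [map_add]; exact add_mem ha hb
    | smul c a _ ha => rw [QCoh.germ_smul' F hyA]; exact P.smul_mem _ ha
  obtain ⟨⟨n, d⟩, hnd⟩ := IsLocalizedModule.surj (hA.primeIdealOf ⟨y, hyA⟩).asIdeal.primeCompl
    (QCoh.germLin F hyA) w
  have h1 : algebraMap Γ(X, A) (X.presheaf.stalk y) d.1 • w ∈ P := by
    rw [algebraMap_smul]
    exact (congrArg (· ∈ P) hnd).mpr (hall n)
  exact Submodule.mem_span_singleton.1 ((Submodule.smul_mem_iff_of_isUnit P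
    (IsLocalization.map_units (X.presheaf.stalk y) d)).1 h1)

include hX in
lemma exists_frame_codim_one (hF : RefHull.IsRef1 F) {x : X} (hx : Order.coheight x = 1) :
    ∃ (U : X.Opens) (_ : x ∈ U) (e : Γ(F, U)), IsFrame e := by
  obtain ⟨t, ht, htg⟩ := exists_gen hX hF hx
  obtain ⟨U, hU, e, he, -⟩ := exists_frame_of_isGen hF.1 (isTorsionFree_of_reflexive hF.1 hF.2.1) ht htg
  exact ⟨U, hU, e, he⟩

lemma isRef1_ddual_tensor (hF : RefHull.IsRef1 F) (hG : RefHull.IsRef1 G) :
    RefHull.IsRef1 (RefHull.ddual (CohB1.tensorMod F G)) := by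
  obtain ⟨U, hU, e, he⟩ := exists_frame_generic hF.2.2
  obtain ⟨V, hV, f, hf⟩ := exists_frame_generic hG.2.2
  exact isRef1_ddual (isCoh_tensor hF.1 hG.1) (U := U ⊓ V) ⟨hU, hV⟩
    (isFrame_tmul (he.res (inf_le_left : U ⊓ V ≤ U)) (hf.res (inf_le_right : U ⊓ V ≤ V)))

include hX in
/-- Orders add up under the reflexive tensor product. -/
theorem exists_sord_add (hF : RefHull.IsRef1 F) (hG : RefHull.IsRef1 G)
    {m : F.presheaf.stalk (genericPoint X)} (hm : m ≠ 0) {n : G.presheaf.stalk (genericPoint X)} (hn : n ≠ 0) :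
    ∃ w : (RefHull.ddual (CohB1.tensorMod F G)).presheaf.stalk (genericPoint X), w ≠ 0 ∧
      ∀ x : X, Order.coheight x = 1 →
        sord (RefHull.ddual (CohB1.tensorMod F G)) x w = sord F x m + sord G x n := by
  have hFG := isCoh_tensor hF.1 hG.1
  obtain ⟨U₁, hU₁, e₁, he₁⟩ := exists_frame_generic hF.2.2
  obtain ⟨U₂, hU₂, f₂, hf₂⟩ := exists_frame_generic hG.2.2
  let U := U₁ ⊓ U₂
  have hU : genericPoint X ∈ U := ⟨hU₁, hU₂⟩
  let e := AModX.res F (inf_le_left : U ≤ U₁) e₁
  let f := AModX.res G (inf_le_right : U ≤ U₂) f₂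
  have he : IsFrame e := he₁.res _
  have hf : IsFrame f := hf₂.res _
  have hge := RatSec.isGen_germ he _ hU
  have hgf := RatSec.isGen_germ hf _ hU
  obtain ⟨a, ha⟩ := exists_coord_gen hge m
  obtain ⟨b, hb⟩ := exists_coord_gen hgf n
  have ha0 : a ≠ 0 := fun h => hm (by rw [← ha, h]; exact zero_smul _ _)
  have hb0 : b ≠ 0 := fun h => hn (by rw [← hb, h]; exact zero_smul _ _)
  let E := (RefHull.bidualMap (CohB1.tensorMod F G)).app U (tmul e f)
  have hE : IsFrame E := isFrame_bidual hFG (isFrame_tmul he hf)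
  have hgE := RatSec.isGen_germ hE _ hU
  refine ⟨(a * b) • (RefHull.ddual (CohB1.tensorMod F G)).presheaf.germ U _ hU E,
    fun h => mul_ne_zero ha0 hb0 (hgE.2 _ h), fun x hx => ?_⟩
  obtain ⟨V₁, hV₁, e', he'⟩ := exists_frame_codim_one hX hF hx
  obtain ⟨V₂, hV₂, f', hf'⟩ := exists_frame_codim_one hX hG hx
  let V := V₁ ⊓ V₂
  have hxV : x ∈ V := ⟨hV₁, hV₂⟩
  have he'' := he'.res (inf_le_left : V ≤ V₁)
  have hf'' := hf'.res (inf_le_right : V ≤ V₂)
  have hW : genericPoint X ∈ U ⊓ V := ⟨hU, generic_mem hxV⟩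
  obtain ⟨p, hp⟩ := he''.exists_coord (inf_le_right : U ⊓ V ≤ V) (AModX.res F (inf_le_left : U ⊓ V ≤ U) e)
  obtain ⟨q, hq⟩ := hf''.exists_coord (inf_le_right : U ⊓ V ≤ V) (AModX.res G (inf_le_left : U ⊓ V ≤ U) f)
  set p' : X.functionField := X.presheaf.germ (U ⊓ V) (genericPoint X) hW p with hp'
  set q' : X.functionField := X.presheaf.germ (U ⊓ V) (genericPoint X) hW q with hq'
  have hrel : ∀ {M : X.Modules} (A : Γ(M, U)) (B : Γ(M, V)) (c : Γ(X, U ⊓ V)),
      AModX.res M (inf_le_left : U ⊓ V ≤ U) A = c • AModX.res M (inf_le_right : U ⊓ V ≤ V) B →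
      M.presheaf.germ U _ hU A = (X.presheaf.germ (U ⊓ V) (genericPoint X) hW c : X.functionField) •
        M.presheaf.germ V _ (generic_mem hxV) B := fun A B c h => by
    rw [← germ_res' (inf_le_left : U ⊓ V ≤ U) hW A, h, QCoh.germ_smul', germ_res']
  let E' := (RefHull.bidualMap (CohB1.tensorMod F G)).app V
    (tmul (AModX.res F (inf_le_left : V ≤ V₁) e') (AModX.res G (inf_le_right : V ≤ V₂) f'))
  have h1 := hrel e _ p hp
  have h2 := hrel f _ q hq
  have h3 := hrel E E' (p * q) (by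
    simp only [E, E']
    rw [← AModX.app_res, ← AModX.app_res, ← Scheme.Modules.Hom.app_smul, res_tmul, res_tmul, hp, hq,
      tmul_smul_left, tmul_smul_right, smul_smul])
  have hp0 : p' ≠ 0 := fun h0 => one_ne_zero (α := X.functionField) (hge.2 1 (by
    rw [one_smul, h1, ← hp', h0]; exact zero_smul _ _))
  have hq0 : q' ≠ 0 := fun h0 => one_ne_zero (α := X.functionField) (hgf.2 1 (by
    rw [one_smul, h2, ← hq', h0]; exact zero_smul _ _))
  rw [h3, ← ha, ← hb, h1, h2, map_mul, ← hp', ← hq', smul_smul, smul_smul, smul_smul,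
    sord_frame hx (isFrame_bidual hFG (isFrame_tmul he'' hf'')) hxV (mul_ne_zero (mul_ne_zero ha0 hb0) (mul_ne_zero hp0 hq0)),
    sord_frame hx he'' hxV (mul_ne_zero ha0 hp0), sord_frame hx hf'' hxV (mul_ne_zero hb0 hq0),
    Scheme.ord_mul (mul_ne_zero ha0 hb0) (mul_ne_zero hp0 hq0), Scheme.ord_mul ha0 hb0,
    Scheme.ord_mul hp0 hq0, Scheme.ord_mul ha0 hp0, Scheme.ord_mul hb0 hq0]
  ring

end Groth.Agent.Div86.Ref
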